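import Cfsg.Agent.CpAutTits.Row

/-!
# An extension of the Tits group by a group of order two is `²F₄(2)` (helper345, for S4819 / S4820)

`exists_iso` : `S` normal of index 2 in `H`, `C_H(S) = 1`, `S` the Tits group, then there is an isomorphism
`H ≃* HT` with `S` going to `TT`.
-/

set_option autoImplicit false

namespace Cfsg.Agent.H345.TiT2

open Subgroup Cfsg.Agent.TitsK
open Cfsg.Agent.FourTwo.Base (LL)

universe u v

/-- An injective homomorphism to the automorphism group, compatible with an isomorphism of the normal subgroups. -/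
theorem iso_aux {H : Type u} [Group H] [Finite H] {S : Subgroup H} (hn : S.Normal) (hi : S.index = 2)
    (hc : centralizer (S : Set H) = ⊥) {L : Type v} [Group L] [Finite L] (D : TData L) (e0 : ↥S ≃* ↥D.T) :
    ∃ e : H ≃* ↥D.H, S.map e.toMonoidHom = D.T.subgroupOf D.H := by
  -- the homomorphism `H → Aut(T)`
  let φ : H →* MulAut ↥D.T := ((MulAut.congr e0).toMonoidHom).comp (MulAut.conjNormal (H := S))
  have hφ : ∀ (h : H) (t : ↥D.T), φ h t = e0 (MulAut.conjNormal h (e0.symm t)) := fun h t => rfl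
  have hφinj : Function.Injective φ := by
    rw [injective_iff_map_eq_one]
    intro h h1
    have h2 : h ∈ centralizer (S : Set H) := by
      rw [mem_centralizer_iff]
      intro s hs
      have h3 := hφ h (e0 ⟨s, hs⟩)
      rw [h1, MulAut.one_apply, e0.symm_apply_apply] at h3
      have h4 := congrArg Subtype.val (e0.injective h3)
      rw [MulAut.conjNormal_apply] at h4
      have h5 : s = h * s * h⁻¹ := h4
      calc s * h = h * s * h⁻¹ * h := by rw [← h5]
        _ = h * s := by group
    rw [hc] at h2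
    exact mem_bot.1 h2
  have hΦinj : Function.Injective D.PhiT := by
    rw [injective_iff_map_eq_one]
    intro h h1
    apply Subtype.ext
    refine D.cent_T h.2 fun t ht => ?_
    have h2 := D.PhiT_apply h ⟨t, ht⟩
    rw [h1, MulAut.one_apply] at h2
    have h3 : t = h * t * (h : L)⁻¹ := h2
    calc (h : L) * t = h * t * (h : L)⁻¹ * h := by group
      _ = t * h := by rw [← h3]
  let Φ : ↥D.H ≃* MulAut ↥D.T := MulEquiv.ofBijective D.PhiT ⟨hΦinj, D.PhiT_surjective⟩
  let f : H →* ↥D.H := Φ.symm.toMonoidHom.comp φ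
  have hf : ∀ h : H, D.PhiT (f h) = φ h := fun h => Φ.apply_symm_apply (φ h)
  have hfinj : Function.Injective f := Φ.symm.injective.comp hφinj
  have hcard : Nat.card H = Nat.card ↥D.H := by
    have h1 := S.card_mul_index
    have h2 := (D.T.subgroupOf D.H).card_mul_index
    have h3 : (D.T.subgroupOf D.H).index = 2 := D.relIndex_T
    rw [hi] at h1
    rw [h3, Nat.card_congr (Subgroup.subgroupOfEquivOfLe D.T_le).toEquiv] at h2
    rw [← h1, ← h2, Nat.card_congr e0.toEquiv]
  have hfbij : Function.Bijective f := (Nat.bijective_iff_injective_and_card f).2 ⟨hfinj, hcard⟩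
  refine ⟨MulEquiv.ofBijective f hfbij, ?_⟩
  -- the image of `S`
  have hS : ∀ s (hs : s ∈ S), (f s : L) = e0 ⟨s, hs⟩ := by
    intro s hs
    have h1 : f s = (⟨e0 ⟨s, hs⟩, D.T_le (e0 ⟨s, hs⟩).2⟩ : ↥D.H) := by
      apply hΦinj
      rw [hf, D.PhiT_inn _ (e0 ⟨s, hs⟩).2]
      ext t
      rw [hφ, MulAut.conj_apply]
      have h2 : MulAut.conjNormal s (e0.symm t) = (⟨s, hs⟩ : ↥S) * e0.symm t * (⟨s, hs⟩ : ↥S)⁻¹ := by
        apply Subtype.ext
        rw [MulAut.conjNormal_apply]
        rfl
      rw [h2, map_mul, map_mul, map_inv, e0.apply_symm_apply]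
    rw [h1]
  apply Subgroup.eq_of_le_of_card_ge
  · rintro _ ⟨s, hs, rfl⟩
    show (f s : L) ∈ D.T
    rw [hS s hs]
    exact (e0 ⟨s, hs⟩).2
  · apply le_of_eq
    rw [Nat.card_congr (Subgroup.subgroupOfEquivOfLe D.T_le).toEquiv, ← Nat.card_congr e0.toEquiv]
    exact Nat.card_congr (S.equivMapOfInjective _ (MulEquiv.injective _)).toEquiv

/-- **`H = T.2 = ²F₄(2)`** -/
theorem exists_iso {H : Type u} [Group H] [Finite H] {S : Subgroup H} (hn : S.Normal) (hi : S.index = 2)
    (hc : centralizer (S : Set H) = ⊥) (hS : Cfsg.Lie.IsoTits ↥S) :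
    ∃ e : H ≃* ↥HT, S.map e.toMonoidHom = TT.subgroupOf HT := by
  obtain ⟨e0⟩ := Cfsg.Agent.CpAutTits.Row.exists_equiv hS
  have hfin : Finite LL := by infer_instance
  exact iso_aux hn hi hc tdata e0

end Cfsg.Agent.H345.TiT2
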