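import Cfsg.Agent.H29.TitsExt
import Cfsg.Agent.H345.TiT2.Iso

/-!
# The character of degree 27 of the Tits group extends to `²F₄(2)` (helper345, for S4819 / S4820)

`h27` : an irreducible character of `HT` of degree 27 whose restriction to `TT.subgroupOf HT` is irreducible.
-/

set_option autoImplicit false

namespace Cfsg.Agent.H345.TiT2

open Subgroup Cfsg Cfsg.Agent.TitsK Cfsg.Agent.H29.TitsMat Cfsg.Agent.H29.TitsHom
  Cfsg.Agent.H29.TitsExt

universe u

theorem isoTits_of_eq {K : Subgroup (GL Cfsg.Agent.ChevalleyStructure.Tits.Mat.I52 (ZMod 2))}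
    (hK : K = Cfsg.Lie.twistedF4 (ZMod 2) 1) : Cfsg.Lie.IsoTits ↥(commutator K) := by
  subst hK
  exact ⟨MulEquiv.refl _⟩

open Cfsg.Agent.ChevalleyStructure.Tits.Main Cfsg.Agent.ChevalleyStructure.Tits.Order
  Cfsg.Agent.ChevalleyStructure.Tits.Final Cfsg.Agent.ChevalleyStructure.Tits.Sat in
/-- **The character of degree 27 extends.** -/
theorem h27 : ∃ ψ : IrrCharacter ↥HT,
    IsIrrCharacter (TT.subgroupOf HT) (fun n : TT.subgroupOf HT => (ψ : ↥HT → ℂ) n) ∧ (ψ : ↥HT → ℂ) 1 = 27 := by
  have := Omega.TwoF.TitsAut.fin_H0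
  have hinj : Function.Injective (MulAut.conjNormal : H0 →* MulAut (commutator H0)) :=
    Omega.TwoF.TitsAut.conj_injective Sat_yH gen_yH card_H0 card_V_yH (yH_ne_one (by norm_num))
      Omega.TwoF.TitsAut.yH7_sq core H0_result.2.2.1
  have hc : centralizer ((commutator H0 : Subgroup H0) : Set H0) = ⊥ := by
    rw [eq_bot_iff]
    intro g hg
    rw [mem_bot]
    apply hinj
    rw [map_one]
    ext t
    rw [MulAut.conjNormal_apply, MulAut.one_apply]
    have h1 := (mem_centralizer_iff.1 hg) t t.2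
    rw [← h1]
    group
  obtain ⟨e, he⟩ := exists_iso (H := H0) (S := commutator H0) inferInstance H0_result.1 hc
    (isoTits_of_eq T0_eq_H0.symm)
  obtain ⟨σ, hσ⟩ := exists_hom
  have hirr : IsIrrCharacter Cfsg.Agent.H29.TitsHom.T (rep σ).character := ⟨27, rep σ, irreducible_rep hσ, rfl⟩
  have hcyc : IsCyclic (H0 ⧸ commutator H0) := by
    have : Fact (Nat.Prime 2) := ⟨Nat.prime_two⟩
    exact isCyclic_of_prime_card (p := 2) H0_result.1
  obtain ⟨χ, hχ, hχσ⟩ := S0886.result (commutator H0) hcyc _ hirr (fun g n => by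
    rw [character_rep, character_rep]
    exact invariant hσ g n)
  have hψ : IsIrrCharacter ↥HT (χ ∘ e.symm.toMonoidHom) :=
    Characters.Core.isIrr_comp _ e.symm.surjective hχ
  refine ⟨⟨χ ∘ e.symm.toMonoidHom, hψ⟩, ?_, ?_⟩
  · -- the restriction
    have hmem : ∀ n : TT.subgroupOf HT, e.symm (n : ↥HT) ∈ commutator H0 := by
      intro n
      have h1 : (n : ↥HT) ∈ (commutator H0).map e.toMonoidHom := by rw [he]; exact n.2
      obtain ⟨s, hs, hs'⟩ := h1
      have h2 : e.symm (n : ↥HT) = s := by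
        rw [← hs']
        exact e.symm_apply_apply s
      rw [h2]
      exact hs
    let f : TT.subgroupOf HT →* Cfsg.Agent.H29.TitsHom.T :=
      (e.symm.toMonoidHom.comp (TT.subgroupOf HT).subtype).codRestrict (commutator H0) hmem
    have hf : Function.Surjective f := by
      rintro ⟨s, hs⟩
      have h1 : e s ∈ TT.subgroupOf HT := by
        rw [← he]
        exact ⟨s, hs, rfl⟩
      refine ⟨⟨e s, h1⟩, ?_⟩
      apply Subtype.ext
      exact e.symm_apply_apply s
    have h1 : (fun n : TT.subgroupOf HT => (χ ∘ e.symm.toMonoidHom) n) = (rep σ).character ∘ f := by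
      funext n
      exact hχσ (f n)
    show IsIrrCharacter (TT.subgroupOf HT) (fun n : TT.subgroupOf HT => (χ ∘ e.symm.toMonoidHom) n)
    rw [h1]
    exact Characters.Core.isIrr_comp _ hf hirr
  · show χ (e.symm 1) = 27
    have h1 := hχσ 1
    rw [Subgroup.coe_one] at h1
    rw [map_one, h1, character_rep, map_one, Units.val_one, Matrix.trace_one, Fintype.card_fin]
    norm_num

end Cfsg.Agent.H345.TiT2
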