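import Cfsg.Agent.CpAutTits.Row
import Cfsg.Agent.H438.TI.Loc

/-!
# Local data of `²F₄(2)` at the prime five (helper345, for S4819 / S4820)

`loc : ∃ P x j r, Loc (TT.subgroupOf HT) P x j r`.
-/

set_option autoImplicit false

namespace Cfsg.Agent.H345.TiT2

open Subgroup Cfsg.Agent.TitsK
open Cfsg.Agent.FourTwo.Base (LL)
open Cfsg.Agent.H438.TI (Loc)
open Cfsg.Agent.CpAutTits

universe u v

/-! ### elements of order five of the Tits group -/

/-- a subgroup of order 25, all elements of order five are conjugate -/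
def Five (X : Type*) [Group X] : Prop :=
  ∃ P : Subgroup X, Nat.card P = 25 ∧ (∀ y ∈ P, y ≠ 1 → orderOf y = 5) ∧
    ∀ y y' : X, orderOf y = 5 → orderOf y' = 5 → ∃ g : X, g * y * g⁻¹ = y'

theorem Five.congr {X : Type u} {Y : Type v} [Group X] [Group Y] (h : Five X) (e : X ≃* Y) : Five Y := by
  obtain ⟨P, h1, h2, h3⟩ := h
  refine ⟨P.map e.toMonoidHom, ?_, ?_, ?_⟩
  · rw [← h1]
    exact (Nat.card_congr (P.equivMapOfInjective e.toMonoidHom e.injective).toEquiv).symm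
  · rintro _ ⟨y, hy, rfl⟩ hne
    have h4 : y ≠ 1 := fun h => hne (by rw [h, map_one])
    rw [← h2 y hy h4]
    exact orderOf_injective e.toMonoidHom e.injective y
  · intro y y' hy hy'
    obtain ⟨g, hg⟩ := h3 (e.symm y) (e.symm y') (by rw [MulEquiv.orderOf_eq, hy]) (by rw [MulEquiv.orderOf_eq, hy'])
    refine ⟨e g, ?_⟩
    have h4 := congrArg e hg
    rw [map_mul, map_mul, map_inv, e.apply_symm_apply, e.apply_symm_apply] at h4
    exact h4

theorem five_of_hyp {G : Type u} [Group G] [Finite G] {P : Subgroup G} (h : Hyp P) : Five G := by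
  have : Fact (Nat.Prime 5) := ⟨by norm_num⟩
  exact ⟨P, h.cardP, fun y hy hne => orderOf_eq_prime (h.exp y hy) hne, fun y y' hy hy' => h.exists_conj hy hy'⟩

section

open Cfsg.Agent.Omega.TwoF.Tits Cfsg.Agent.Omega.TwoF.Scalar Cfsg.Agent.Omega.TwoF.Orb
  Cfsg.Agent.ChevalleyStructure.Tits.Main

theorem five_C0 (hten : ∀ y : C, orderOf y = 5 → ∀ i, orderOf i = 2 → i * y = y * i →
      Nat.card ↥(centralizer ({y} : Set C) ⊓ centralizer ({i} : Set C)) = 10)
    (hex : ∃ y i : C, orderOf y = 5 ∧ orderOf i = 2 ∧ i * y = y * i) : Five C := by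
  have h := Fus.hyp hten hex
  exact five_of_hyp h

theorem five_C {X : Type} [Group X] (e : C ≃* X)
    (hten : ∀ y : X, orderOf y = 5 → ∀ i, orderOf i = 2 → i * y = y * i →
      Nat.card ↥(centralizer ({y} : Set X) ⊓ centralizer ({i} : Set X)) = 10)
    (hex : ∃ y i : X, orderOf y = 5 ∧ orderOf i = 2 ∧ i * y = y * i) : Five X := by
  have h := Row.hyp_of_ten (G := C) e hten hex
  have h1 := five_C0 h.1 h.2
  exact h1.congr e

end

theorem five_TT_aux (K : Subgroup (Matrix.GeneralLinearGroup Cfsg.Agent.ChevalleyStructure.Tits.Mat.I52 (ZMod 2)))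
    (hK : K = Cfsg.Agent.ChevalleyStructure.Tits.Order.H0)
    (e : Nonempty (↥(_root_.commutator K) ≃* ↥TT)) : Five ↥TT := by
  subst hK
  obtain ⟨e⟩ := e
  exact five_C e Ten.facts.ten ⟨Ten.facts.xT, Ten.facts.zT, Ten.facts.order_x, Ten.facts.order_z, Ten.facts.comm_zx⟩

theorem five_TT : Five ↥TT :=
  five_TT_aux (Cfsg.Lie.twistedF4 (ZMod 2) 1) Cfsg.Agent.ChevalleyStructure.Tits.Main.T0_eq_H0 exists_equiv

/-! ### abstract transfer -/

section abstract

variable {L : Type*} [Group L] {T H : Subgroup L}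

theorem card_cent_aux (hTH : T ≤ H) {x : L} (hx : x ∈ T) :
    Nat.card ↥(centralizer ({(⟨x, hTH hx⟩ : ↥H)} : Set ↥H) ⊓ T.subgroupOf H) =
      Nat.card ↥(centralizer ({(⟨x, hx⟩ : ↥T)} : Set ↥T)) := by
  have h1 : ∀ g : ↥H, g ∈ centralizer ({(⟨x, hTH hx⟩ : ↥H)} : Set ↥H) → (g : L) * x = x * g := fun g hg =>
    congrArg (fun t : ↥H => (t : L)) (mem_centralizer_singleton_iff.1 hg)
  have h2 : ∀ g : ↥T, g ∈ centralizer ({(⟨x, hx⟩ : ↥T)} : Set ↥T) → (g : L) * x = x * g := fun g hg =>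
    congrArg (fun t : ↥T => (t : L)) (mem_centralizer_singleton_iff.1 hg)
  exact Nat.card_congr
    { toFun := fun g => ⟨⟨g.1.1, g.2.2⟩, mem_centralizer_singleton_iff.2 (Subtype.ext (h1 g.1 g.2.1))⟩
      invFun := fun t => ⟨⟨t.1.1, hTH t.1.2⟩, mem_centralizer_singleton_iff.2 (Subtype.ext (h2 t.1 t.2)), t.1.2⟩
      left_inv := fun g => rfl
      right_inv := fun t => rfl }

/-- The local data from the facts in the ambient group. -/
theorem loc_aux (hTH : T ≤ H) (hrel : T.relIndex H = 2) {x j s z : L} (hx : x ∈ T) (hj : j ∈ H) (hjT : j ∉ T)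
    (hs : s ∈ T) (x5 : x ^ 5 = 1) (x1 : x ≠ 1) (jsq : j * j = z) (z1 : z ≠ 1) (z2 : z * z = 1)
    (hxj : j * x = x * j) (hsx : s⁻¹ * x * s = x ^ 2) (hsj : s * j = j * s)
    (hcent : ∀ p ∈ H, p * z * p⁻¹ = z → p * x = x * p → ∃ k l m : ℕ, p = x ^ k * z ^ l * j ^ m)
    (h50 : ∀ y : ↥T, orderOf y = 5 → Nat.card ↥(centralizer ({y} : Set ↥T)) = 50) (hfive : Five ↥T) :
    ∃ (P : Subgroup ↥H) (x j r : ↥H), Loc (T.subgroupOf H) P x j r := by
  have f5 : Fact (Nat.Prime 5) := ⟨by norm_num⟩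
  obtain ⟨P, hP1, hP2, hP3⟩ := hfive
  have oxT : orderOf (⟨x, hx⟩ : ↥T) = 5 := orderOf_eq_prime (Subtype.ext x5) fun h => x1 (congrArg Subtype.val h)
  have hmap : ∀ y ∈ P.map T.subtype, y ∈ H := by
    rintro _ ⟨y, -, rfl⟩
    exact hTH y.2
  refine ⟨(P.map T.subtype).subgroupOf H, ⟨x, hTH hx⟩, ⟨j, hj⟩, ⟨s⁻¹, H.inv_mem (hTH hs)⟩, ?_⟩
  refine
    { index := hrel
      xN := hx
      ox := ?_
      jN := hjT
      oj := ?_
      comm := Subtype.ext hxj.symm
      rN := T.inv_mem hs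
      rx := Subtype.ext (by
        show s⁻¹ * x * (s⁻¹)⁻¹ = x ^ 2
        rw [inv_inv, hsx])
      rj := Subtype.ext (by
        show s⁻¹ * j = j * s⁻¹
        rw [inv_mul_eq_iff_eq_mul, ← mul_assoc, hsj, mul_inv_cancel_right])
      cent := ?_
      c50 := ?_
      P_le := ?_
      P_card := ?_
      P_fus := ?_ }
  · exact orderOf_eq_prime (Subtype.ext x5) fun h => x1 (congrArg Subtype.val h)
  · have h1 : orderOf (⟨j, hj⟩ : ↥H) = 2 ^ (1 + 1) := by
      refine orderOf_eq_prime_pow (fun h => z1 ?_) (Subtype.ext ?_)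
      · have h2 := congrArg Subtype.val h
        have h3 : j ^ 2 ^ 1 = 1 := h2
        rw [pow_one, pow_two, jsq] at h3
        exact h3
      · show j ^ 2 ^ (1 + 1) = 1
        have e : j ^ 2 ^ (1 + 1) = j * j * (j * j) := by
          rw [show 2 ^ (1 + 1) = 2 + 2 from rfl, pow_add, pow_two]
        rw [e, jsq, z2]
    rw [h1]
    norm_num
  · intro g hg1 hg2
    have e1 : (g : L) * x = x * g := congrArg Subtype.val hg1
    have e2 : (g : L) * (j * j) = (j * j) * g := congrArg Subtype.val hg2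
    rw [jsq] at e2
    obtain ⟨k, l, m, h⟩ := hcent g g.2 (by rw [e2, mul_inv_cancel_right]) e1
    refine ⟨k, 2 * l + m, Subtype.ext ?_⟩
    show (g : L) = x ^ k * j ^ (2 * l + m)
    rw [h, pow_add, pow_mul, pow_two, jsq, mul_assoc]
  · rw [card_cent_aux hTH hx, h50 _ oxT]
  · rintro ⟨g, hg⟩ h
    obtain ⟨y, -, hy⟩ := h
    show g ∈ T
    rw [← (show (y : L) = g from hy)]
    exact y.2
  · rw [Nat.card_congr (Subgroup.subgroupOfEquivOfLe hmap).toEquiv, ← hP1]
    exact (Nat.card_congr (P.equivMapOfInjective _ T.subtype_injective).toEquiv).symm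
  · rintro ⟨g, hg⟩ ⟨y, hy, hyg⟩ hne
    have hy1 : y ≠ 1 := by
      intro h
      apply hne
      apply Subtype.ext
      have h3 : (y : L) = g := hyg
      show g = 1
      rw [← h3, h]
      rfl
    obtain ⟨t, ht⟩ := hP3 ⟨x, hx⟩ y oxT (hP2 y hy hy1)
    refine ⟨⟨t, hTH t.2⟩, t.2, Subtype.ext ?_⟩
    show (t : L) * x * (t : L)⁻¹ = g
    rw [← (show (y : L) = g from hyg), ← ht]
    rfl

end abstract

/-- **The local data of `²F₄(2)` at the prime five.** -/
theorem loc : ∃ (P : Subgroup ↥HT) (x j r : ↥HT), Loc (TT.subgroupOf HT) P x j r := by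
  exact loc_aux (L := LL) (T := TT) (H := HT) (x := xf) (j := jf) (s := sf) (z := z) (fun _ h => TT_le h) relIndex_TT
    xf_mem_TT jf_mem_HT jf_not_mem sf_mem_TT xf_pow5 xf_ne jf_sq
    z_ne z_sq jf_comm_xf sf_conj (by
      unfold sf
      rw [← mul_assoc jf yb jf, jf_comm_yb]) (fun p hp hz hx => cent_xf (mem_Pz.2 ⟨hp, hz⟩) hx)
    Row.out_TT.cent five_TT

end Cfsg.Agent.H345.TiT2
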