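import Cfsg.Agent.H345.TiT2.NorP
import Cfsg.Agent.H345.TiT2.Ext27
import Cfsg.Agent.H345.TiT2.Loc
import Cfsg.Agent.H438.TI.Main
import Cfsg.Agent.H608.TI.LocGen
import Cfsg.Agent.H604.OZ.Basic

/-!
# S4820 for `²F₄(2)` (helper345)

`cnt_two` : `Cnt 5 H` for `AS IsoTits 2 H`, from the number 16 for the Tits group.
-/

set_option autoImplicit false

namespace Cfsg.Agent.H345.TiT2

open Subgroup Cfsg Cfsg.Agent.H438.TI Cfsg.Agent.TitsK

universe u v

/-- transport of the local data along an isomorphism -/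
theorem loc_congr {G : Type u} [Group G] {G' : Type v} [Group G'] {N P : Subgroup G} {x j r : G}
    (L : Loc N P x j r) (e : G' ≃* G) :
    Loc (N.comap e.toMonoidHom) (P.comap e.toMonoidHom) (e.symm x) (e.symm j) (e.symm r) := by
  have hmN : ∀ g : G', g ∈ N.comap e.toMonoidHom ↔ e g ∈ N := fun g => Iff.rfl
  have hmN' : ∀ g : G, e.symm g ∈ N.comap e.toMonoidHom ↔ g ∈ N := fun g => by
    rw [hmN, e.apply_symm_apply]
  have hmP : ∀ g : G', g ∈ P.comap e.toMonoidHom ↔ e g ∈ P := fun g => Iff.rfl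
  refine ⟨?_, (hmN' x).2 L.xN, ?_, fun h => L.jN ((hmN' j).1 h), ?_, ?_, (hmN' r).2 L.rN, ?_, ?_, ?_, ?_, ?_, ?_, ?_⟩
  · rw [index_comap_of_surjective _ e.surjective]
    exact L.index
  · rw [MulEquiv.orderOf_eq, L.ox]
  · rw [MulEquiv.orderOf_eq, L.oj]
  · rw [← map_mul, ← map_mul, L.comm]
  · rw [← map_inv, ← map_mul, ← map_mul, L.rx, map_pow]
  · rw [← map_mul, ← map_mul, L.rj]
  · intro g h1 h2
    obtain ⟨k, l, hkl⟩ := L.cent (e g) (by
        have h3 := congrArg e h1
        simp only [map_mul, e.apply_symm_apply] at h3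
        exact h3) (by
        have h3 := congrArg e h2
        simp only [map_mul, e.apply_symm_apply] at h3
        exact h3)
    refine ⟨k, l, e.injective ?_⟩
    rw [hkl, map_mul, map_pow, map_pow, e.apply_symm_apply, e.apply_symm_apply]
  · rw [← L.c50]
    refine Nat.card_congr ⟨fun g => ⟨e g.1, ?_, g.2.2⟩, fun g => ⟨e.symm g.1, ?_, (hmN' _).2 g.2.2⟩, fun g => ?_, fun g => ?_⟩
    · have h1 := mem_centralizer_singleton_iff.1 g.2.1
      have h3 := congrArg e h1
      rw [map_mul, map_mul, e.apply_symm_apply] at h3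
      exact mem_centralizer_singleton_iff.2 h3
    · have h1 := mem_centralizer_singleton_iff.1 g.2.1
      apply mem_centralizer_singleton_iff.2
      rw [← map_mul, ← map_mul, h1]
    · exact Subtype.ext (e.symm_apply_apply _)
    · exact Subtype.ext (e.apply_symm_apply _)
  · exact comap_mono L.P_le
  · rw [← L.P_card]
    exact Nat.card_congr ⟨fun g => ⟨e g.1, g.2⟩, fun g => ⟨e.symm g.1, (hmP _).2 (by rw [e.apply_symm_apply]; exact g.2)⟩,
      fun g => Subtype.ext (e.symm_apply_apply _), fun g => Subtype.ext (e.apply_symm_apply _)⟩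
  · intro y hy hy1
    obtain ⟨g, hg, hgy⟩ := L.P_fus (e y) hy (fun h => hy1 (e.injective (by rw [h, map_one])))
    refine ⟨e.symm g, (hmN' g).2 hg, e.injective ?_⟩
    rw [map_mul, map_mul, map_inv, e.apply_symm_apply, e.apply_symm_apply, hgy]

/-- transport of the character of degree 27 -/
theorem h27_congr {G : Type u} [Group G] {G' : Type v} [Group G'] {N : Subgroup G} (e : G' ≃* G)
    (h : ∃ ψ : IrrCharacter G, IsIrrCharacter N (fun n : N => (ψ : G → ℂ) n) ∧ (ψ : G → ℂ) 1 = 27) :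
    ∃ ψ : IrrCharacter G', IsIrrCharacter (N.comap e.toMonoidHom)
      (fun n : N.comap e.toMonoidHom => (ψ : G' → ℂ) n) ∧ (ψ : G' → ℂ) 1 = 27 := by
  obtain ⟨ψ, h1, h2⟩ := h
  refine ⟨⟨(ψ : G → ℂ) ∘ e.toMonoidHom, Characters.Core.isIrr_comp _ e.surjective ψ.2⟩, ?_, ?_⟩
  · let f : N.comap e.toMonoidHom →* N := (e.toMonoidHom.comp (N.comap e.toMonoidHom).subtype).codRestrict N
      (fun n => n.2)
    have hf : Function.Surjective f := by
      rintro ⟨n, hn⟩
      refine ⟨⟨e.symm n, ?_⟩, Subtype.ext (e.apply_symm_apply n)⟩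
      show e (e.symm n) ∈ N
      rw [e.apply_symm_apply]
      exact hn
    exact Characters.Core.isIrr_comp f hf h1
  · show (ψ : G → ℂ) (e 1) = 27
    rw [map_one, h2]

/-- the order of the Tits group -/
theorem card_TT' : Nat.card (TT.subgroupOf HT) = 17971200 := by
  rw [Nat.card_congr (Subgroup.subgroupOfEquivOfLe TT_le).toEquiv]
  exact card_TT

/-- defect zero -/
theorem isDz_iff {G : Type u} [Group G] [Finite G] (hG : (Nat.card G).factorization 5 = 2) (χ : IrrCharacter G) :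
    H34.TI.IsDz 5 χ ↔ 25 ∣ charDegree (χ : G → ℂ) := by
  have hd := H604.OZ.deg_dvd χ
  have hG0 : Nat.card G ≠ 0 := Nat.card_pos.ne'
  have hd0 : charDegree (χ : G → ℂ) ≠ 0 := fun h => hG0 (by rw [h] at hd; exact Nat.eq_zero_of_zero_dvd hd)
  unfold H34.TI.IsDz
  rw [hG]
  have h25 : 25 ∣ charDegree (χ : G → ℂ) ↔ 2 ≤ (charDegree (χ : G → ℂ)).factorization 5 := by
    rw [show (25 : ℕ) = 5 ^ 2 by norm_num]
    exact Nat.Prime.pow_dvd_iff_le_factorization (by norm_num) hd0
  rw [h25]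
  have h1 := (Nat.factorization_le_iff_dvd hd0 hG0).2 hd 5
  rw [hG] at h1
  omega

/-- **S4820 for `²F₄(2)`**, from the sixteen characters of the Tits group. -/
theorem cnt_two (h16 : ∀ (T : Type u) [Group T] [Finite T], Lie.IsoTits T →
      Nat.card {χ : IrrCharacter T // ¬ 25 ∣ charDegree (χ : T → ℂ)} = 16)
    {H : Type u} [Group H] [Finite H] [Fact (Nat.Prime 5)] (h : H34.TI.AS (fun S _ => Lie.IsoTits S) 2 H) :
    H34.TI.Cnt 5 H := by
  classical
  obtain ⟨S, hn, hi, hc, hS⟩ := h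
  obtain ⟨e, he⟩ := exists_iso hn hi hc hS
  obtain ⟨P0, x, j, r, L⟩ := loc
  have hSe : (TT.subgroupOf HT).comap e.toMonoidHom = S := by
    rw [← he]
    exact comap_map_eq_self_of_injective e.injective S
  have L' := loc_congr L e
  have h27' := h27_congr (G := ↥HT) (G' := H) (N := TT.subgroupOf HT) e h27
  rw [hSe] at L' h27'
  have hcS : Nat.card S = 17971200 := by
    rw [← card_TT', ← he]
    exact Nat.card_congr (S.equivMapOfInjective _ e.injective).toEquiv
  have h20 := card20 L' hcS (h16 S hS) h27'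
  intro P hTI
  have hf := fac5 L' hcS
  have hPc : Nat.card (P : Subgroup H) = 25 := by
    rw [P.card_eq_multiplicity, hf]
    norm_num
  rw [H608.TI.locGen 5 H P hTI, kG L' hcS hPc, card_sing L' hcS]
  have hfin : Finite (IrrCharacter H) := Characters.Core.finite_irr
  have h1 : Nat.card (IrrCharacter H) = Nat.card (ConjClasses H) := Characters.Core.card_irr
  rw [← h1, ← Nat.card_congr (Equiv.sumCompl (fun χ : IrrCharacter H => H34.TI.IsDz 5 χ)), Nat.card_sum]
  have h2 : Nat.card {χ : IrrCharacter H // ¬ H34.TI.IsDz 5 χ} = 20 := by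
    rw [← h20]
    exact Nat.card_congr (Equiv.subtypeEquivRight fun χ => not_congr (isDz_iff hf χ))
  rw [h2]
  omega

end Cfsg.Agent.H345.TiT2
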