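import Mathlib

/-!
# Subgroups of `GL(2, 5)` of order 96 containing the diagonal torus (helper345, for S4819 / S4820)

`classes_16` : such a subgroup `H` has 16 conjugacy classes; `classes_14` : a subgroup of index 2 has 14 classes.
-/

set_option autoImplicit false

namespace Cfsg.Agent.H345.TiT2.GLFive

instance : Fact (Nat.Prime 5) := ⟨by norm_num⟩

theorem pow_four {M : Type*} [Monoid M] (g : M) : g ^ 4 = (g * g) * (g * g) := by
  rw [pow_succ, pow_succ, pow_succ, pow_one, mul_assoc (g * g)]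

theorem pow_twenty {M : Type*} [Monoid M] (g : M) :
    g ^ 20 = ((g ^ 4 * g ^ 4) * (g ^ 4 * g ^ 4)) * g ^ 4 := by
  simp only [← pow_add]

/-- codes of 2 × 2 matrices -/
abbrev Q := ZMod 5 × ZMod 5 × ZMod 5 × ZMod 5

/-- product -/
def mu (m n : Q) : Q := (m.1 * n.1 + m.2.1 * n.2.2.1, m.1 * n.2.1 + m.2.1 * n.2.2.2,
  m.2.2.1 * n.1 + m.2.2.2 * n.2.2.1, m.2.2.1 * n.2.1 + m.2.2.2 * n.2.2.2)

/-- determinant -/
def dt (m : Q) : ZMod 5 := m.1 * m.2.2.2 - m.2.1 * m.2.2.1

/-- the elements of the group of order 96 -/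
def gd (m : Q) : Prop := dt m ≠ 0 ∧ ((m.2.1 = 0 ∧ m.2.2.1 = 0) ∨ (m.1 = 0 ∧ m.2.2.2 = 0) ∨
  m.1 * m.2.2.2 + m.2.1 * m.2.2.1 = 0)

instance (m : Q) : Decidable (gd m) := by unfold gd; infer_instance

/-- a multiple root of the characteristic polynomial, not scalar -/
def ds (m : Q) : Prop := (m.1 + m.2.2.2) * (m.1 + m.2.2.2) = 4 * dt m ∧ ¬ (m.2.1 = 0 ∧ m.2.2.1 = 0)

instance (m : Q) : Decidable (ds m) := by unfold ds; infer_instance

theorem card_gd : (Finset.univ.filter (fun m : Q => gd m)).card = 96 := by decide +kernel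

theorem card_gd' : (Finset.univ.filter (fun m : Q => gd m ∧ dt m * dt m = 1)).card = 48 := by decide +kernel

theorem bad : ∀ a b c d : ZMod 5, dt (a, b, c, d) ≠ 0 → ¬ gd (a, b, c, d) → ∃ s t : ZMod 5, s ≠ 0 ∧ t ≠ 0 ∧
    (ds (mu (a, b, c, d) (s, 0, 0, t)) ∨
      ∃ u : ZMod 5, u ≠ 0 ∧ ds (mu (mu (a, b, c, d) (s, 0, 0, t)) (mu (a, b, c, d) (u, 0, 0, 1)))) := by
  decide +kernel

theorem card_com : (((Finset.univ.filter (fun m : Q => gd m)) ×ˢ (Finset.univ.filter (fun m : Q => gd m))).filter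
    (fun p => mu p.1 p.2 = mu p.2 p.1)).card = 1536 := by decide +kernel

theorem card_com' : (((Finset.univ.filter (fun m : Q => gd m ∧ dt m * dt m = 1)) ×ˢ
    (Finset.univ.filter (fun m : Q => gd m ∧ dt m * dt m = 1))).filter
    (fun p => mu p.1 p.2 = mu p.2 p.1)).card = 672 := by decide +kernel

theorem pow4 : ∀ a b c d : ZMod 5, mu (mu (a, b, c, d) (a, b, c, d)) (mu (a, b, c, d) (a, b, c, d)) = (1, 0, 0, 1) →
    ¬ ds (a, b, c, d) := by
  decide +kernel

/-- the 20-th power -/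
theorem pow20 : ∀ a b c d : ZMod 5, dt (a, b, c, d) ≠ 0 → ds (a, b, c, d) →
    (let q := mu (mu (a, b, c, d) (a, b, c, d)) (mu (a, b, c, d) (a, b, c, d))
     mu (mu (mu q q) (mu q q)) q) = (1, 0, 0, 1) := by
  decide +kernel

/-- every element of determinant `± 1` is a product of two squares -/
theorem sq2 : ∀ m ∈ Finset.univ.filter (fun m : Q => gd m ∧ dt m * dt m = 1),
    ∃ a ∈ Finset.univ.filter (fun m : Q => gd m), ∃ b ∈ Finset.univ.filter (fun m : Q => gd m),
      mu (mu a a) (mu b b) = m := by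
  decide +kernel

/-- the code of a matrix -/
def en (g : GL (Fin 2) (ZMod 5)) : Q := (g 0 0, g 0 1, g 1 0, g 1 1)

theorem en_mul (g h : GL (Fin 2) (ZMod 5)) : en (g * h) = mu (en g) (en h) := by
  unfold en mu
  simp only [Units.val_mul, Matrix.mul_apply, Fin.sum_univ_two]

theorem en_one : en 1 = (1, 0, 0, 1) := by
  unfold en
  simp

theorem en_injective : Function.Injective en := by
  intro g h e
  unfold en at e
  simp only [Prod.mk.injEq] at e
  obtain ⟨e1, e2, e3, e4⟩ := e
  apply Units.ext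
  ext i j
  fin_cases i <;> fin_cases j
  · exact e1
  · exact e2
  · exact e3
  · exact e4

theorem dt_en (g : GL (Fin 2) (ZMod 5)) : dt (en g) ≠ 0 := by
  have h1 : dt (en g) = Matrix.det (g : Matrix (Fin 2) (Fin 2) (ZMod 5)) := by
    rw [Matrix.det_fin_two]
    rfl
  rw [h1]
  exact (Matrix.isUnits_det_units g).ne_zero

variable {H K : Subgroup (GL (Fin 2) (ZMod 5))}

/-- no element of order divisible by five -/
theorem not_ds (hc : Nat.card H = 96) {g : GL (Fin 2) (ZMod 5)} (hg : g ∈ H) : ¬ ds (en g) := by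
  intro h
  have e4 : en (g ^ 4) = mu (mu (en g) (en g)) (mu (en g) (en g)) := by
    rw [pow_four, en_mul, en_mul]
  have h20 : g ^ 20 = 1 := by
    apply en_injective
    rw [pow_twenty, en_mul, en_mul, en_mul, e4, en_one]
    exact pow20 (en g).1 (en g).2.1 (en g).2.2.1 (en g).2.2.2 (dt_en g) h
  have h96 : g ^ 96 = 1 := by
    have h1 : (⟨g, hg⟩ : H) ^ Nat.card H = 1 := pow_card_eq_one'
    rw [hc] at h1
    exact congrArg Subtype.val h1
  have h4 : g ^ 4 = 1 := by
    have h1 : orderOf g ∣ Nat.gcd 20 96 := Nat.dvd_gcd (orderOf_dvd_of_pow_eq_one h20) (orderOf_dvd_of_pow_eq_one h96)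
    exact orderOf_dvd_iff_pow_eq_one.1 h1
  refine pow4 (en g).1 (en g).2.1 (en g).2.2.1 (en g).2.2.2 ?_ h
  rw [h4, en_one] at e4
  exact e4.symm

/-- `H` contains the diagonal matrices -/
def Diag (H : Subgroup (GL (Fin 2) (ZMod 5))) : Prop :=
  ∀ s t : ZMod 5, s ≠ 0 → t ≠ 0 → ∃ g ∈ H, en g = (s, 0, 0, t)

theorem gd_of_mem (hc : Nat.card H = 96) (hD : Diag H) {g : GL (Fin 2) (ZMod 5)} (hg : g ∈ H) : gd (en g) := by
  by_contra h
  obtain ⟨s, t, hs, ht, h1⟩ := bad (en g).1 (en g).2.1 (en g).2.2.1 (en g).2.2.2 (dt_en g) h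
  have h2 : ((en g).1, (en g).2.1, (en g).2.2.1, (en g).2.2.2) = en g := rfl
  rw [h2] at h1
  obtain ⟨x, hx, ex⟩ := hD s t hs ht
  rcases h1 with h1 | ⟨u, hu, h1⟩
  · rw [← ex, ← en_mul] at h1
    exact not_ds hc (mul_mem hg hx) h1
  · obtain ⟨y, hy, ey⟩ := hD u 1 hu one_ne_zero
    rw [← ex, ← ey, ← en_mul, ← en_mul, ← en_mul] at h1
    exact not_ds hc (mul_mem (mul_mem hg hx) (mul_mem hg hy)) h1

/-- a subgroup is determined by the codes; the number of commuting pairs -/
theorem classes_of (S : Finset Q) {n k : ℕ} (hn : 0 < n) (hS : S.card = n)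
    (hcom : ((S ×ˢ S).filter (fun p => mu p.1 p.2 = mu p.2 p.1)).card = k * n)
    (hH : ∀ g, g ∈ H ↔ en g ∈ S) (hc : Nat.card H = n) : Nat.card (ConjClasses H) = k := by
  have hfin : Finite H := Nat.finite_of_card_ne_zero (by rw [hc]; exact hn.ne')
  have hsurj : ∀ m ∈ S, ∃ g ∈ H, en g = m := by
    let f : H → S := fun g => ⟨en g, (hH g).1 g.2⟩
    have hf : Function.Injective f := fun g h e => Subtype.ext (en_injective (congrArg Subtype.val e))
    have hb : Function.Bijective f := by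
      rw [Nat.bijective_iff_injective_and_card]
      exact ⟨hf, by rw [hc, Nat.card_eq_fintype_card, Fintype.card_coe, hS]⟩
    intro m hm
    obtain ⟨g, hg⟩ := hb.2 ⟨m, hm⟩
    exact ⟨g, g.2, congrArg Subtype.val hg⟩
  have h1 := card_comm_eq_card_conjClasses_mul_card H
  rw [hc] at h1
  let e : {p : H × H // Commute p.1 p.2} → ((S ×ˢ S).filter (fun p => mu p.1 p.2 = mu p.2 p.1) : Finset (Q × Q)) :=
    fun p => ⟨(en p.1.1, en p.1.2), by
      rw [Finset.mem_filter, Finset.mem_product]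
      refine ⟨⟨(hH _).1 p.1.1.2, (hH _).1 p.1.2.2⟩, ?_⟩
      have h2 := congrArg (fun t : H => en t) p.2.eq
      simp only [Subgroup.coe_mul, en_mul] at h2
      exact h2⟩
  have he : Function.Bijective e := by
    constructor
    · rintro ⟨⟨a, b⟩, hab⟩ ⟨⟨c, d⟩, hcd⟩ h
      have h2 := congrArg Subtype.val h
      have h3 : en a = en c := congrArg Prod.fst h2
      have h4 : en b = en d := congrArg Prod.snd h2
      have h5 : a = c := Subtype.ext (en_injective h3)
      have h6 : b = d := Subtype.ext (en_injective h4)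
      subst h5 h6
      rfl
    · rintro ⟨⟨m1, m2⟩, hm⟩
      have hm' := hm
      rw [Finset.mem_filter, Finset.mem_product] at hm'
      obtain ⟨⟨k1, k2⟩, k3⟩ := hm'
      obtain ⟨g1, hg1, e1⟩ := hsurj m1 k1
      obtain ⟨g2, hg2, e2⟩ := hsurj m2 k2
      refine ⟨⟨(⟨g1, hg1⟩, ⟨g2, hg2⟩), ?_⟩, ?_⟩
      · apply Subtype.ext
        apply en_injective
        show en (g1 * g2) = en (g2 * g1)
        rw [en_mul, en_mul, e1, e2]
        exact k3
      · apply Subtype.ext
        show (en g1, en g2) = (m1, m2)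
        rw [e1, e2]
  rw [Nat.card_eq_of_bijective e he, Nat.card_eq_fintype_card, Fintype.card_coe, hcom] at h1
  exact (Nat.eq_of_mul_eq_mul_right hn h1).symm

theorem mem_iff (hc : Nat.card H = 96) (hD : Diag H) (g : GL (Fin 2) (ZMod 5)) :
    g ∈ H ↔ en g ∈ Finset.univ.filter (fun m : Q => gd m) := by
  constructor
  · intro h
    rw [Finset.mem_filter]
    exact ⟨Finset.mem_univ _, gd_of_mem hc hD h⟩
  · intro h
    have hfin : Finite H := Nat.finite_of_card_ne_zero (by rw [hc]; norm_num)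
    let f : H → Finset.univ.filter (fun m : Q => gd m) := fun g => ⟨en g, by
      rw [Finset.mem_filter]
      exact ⟨Finset.mem_univ _, gd_of_mem hc hD g.2⟩⟩
    have hf : Function.Injective f := fun g h e => Subtype.ext (en_injective (congrArg Subtype.val e))
    have hb : Function.Bijective f := by
      rw [Nat.bijective_iff_injective_and_card]
      exact ⟨hf, by rw [hc, Nat.card_eq_fintype_card, Fintype.card_coe, card_gd]⟩
    obtain ⟨x, hx⟩ := hb.2 ⟨en g, h⟩
    have h1 : en x = en g := congrArg Subtype.val hx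
    rw [← en_injective h1]
    exact x.2

/-- **16 classes** -/
theorem classes_16 (hc : Nat.card H = 96) (hD : Diag H) : Nat.card (ConjClasses H) = 16 :=
  classes_of _ (n := 96) (k := 16) (by norm_num) card_gd (by rw [card_com]) (mem_iff hc hD) hc

theorem mem_iff' (hc : Nat.card H = 96) (hD : Diag H) (hK : Nat.card K = 48)
    (hsq : ∀ h ∈ H, h * h ∈ K) (g : GL (Fin 2) (ZMod 5)) :
    g ∈ K ↔ en g ∈ Finset.univ.filter (fun m : Q => gd m ∧ dt m * dt m = 1) := by
  have hfin : Finite K := Nat.finite_of_card_ne_zero (by rw [hK]; norm_num)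
  have h1 : ∀ m ∈ Finset.univ.filter (fun m : Q => gd m ∧ dt m * dt m = 1), ∃ g ∈ K, en g = m := by
    intro m hm
    obtain ⟨a, ha, b, hb, hab⟩ := sq2 m hm
    have key : ∀ a ∈ Finset.univ.filter (fun m : Q => gd m), ∃ x ∈ H, en x = a := by
      intro a ha
      have hfin : Finite H := Nat.finite_of_card_ne_zero (by rw [hc]; norm_num)
      let f : H → Finset.univ.filter (fun m : Q => gd m) := fun g => ⟨en g, (mem_iff hc hD g).1 g.2⟩
      have hf : Function.Injective f := fun g h e => Subtype.ext (en_injective (congrArg Subtype.val e))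
      have hb : Function.Bijective f := by
        rw [Nat.bijective_iff_injective_and_card]
        exact ⟨hf, by rw [hc, Nat.card_eq_fintype_card, Fintype.card_coe, card_gd]⟩
      obtain ⟨x, hx⟩ := hb.2 ⟨a, ha⟩
      exact ⟨x, x.2, congrArg Subtype.val hx⟩
    obtain ⟨x, hx, ex⟩ := key a ha
    obtain ⟨y, hy, ey⟩ := key b hb
    exact ⟨(x * x) * (y * y), mul_mem (hsq x hx) (hsq y hy), by rw [en_mul, en_mul, en_mul, ex, ey, hab]⟩
  -- the map from the set of codes to `K`
  choose F hF using h1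
  let f : Finset.univ.filter (fun m : Q => gd m ∧ dt m * dt m = 1) → K := fun m => ⟨F m.1 m.2, (hF m.1 m.2).1⟩
  have hf : Function.Injective f := by
    intro m n e
    have h2 : F m.1 m.2 = F n.1 n.2 := congrArg Subtype.val e
    apply Subtype.ext
    rw [← (hF m.1 m.2).2, ← (hF n.1 n.2).2, h2]
  have hb : Function.Bijective f := by
    rw [Nat.bijective_iff_injective_and_card]
    exact ⟨hf, by rw [hK, Nat.card_eq_fintype_card, Fintype.card_coe, card_gd']⟩
  constructor
  · intro h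
    obtain ⟨m, hm⟩ := hb.2 ⟨g, h⟩
    have h2 : F m.1 m.2 = g := congrArg Subtype.val hm
    rw [← h2, (hF m.1 m.2).2]
    exact m.2
  · intro h
    have h2 : F (en g) h = g := en_injective (hF _ h).2
    rw [← h2]
    exact (hF _ h).1

/-- **14 classes** -/
theorem classes_14 (hc : Nat.card H = 96) (hD : Diag H) (hK : Nat.card K = 48)
    (hsq : ∀ h ∈ H, h * h ∈ K) : Nat.card (ConjClasses K) = 14 :=
  classes_of _ (n := 48) (k := 14) (by norm_num) card_gd' (by rw [card_com']) (mem_iff' hc hD hK hsq) hK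

end Cfsg.Agent.H345.TiT2.GLFive
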