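import Cfsg.Agent.H345.TiT2.GLFive

/-!
# Automorphisms of an elementary abelian group of order 25 as matrices (helper345, for S4819 / S4820)
-/

set_option autoImplicit false

namespace Cfsg.Agent.H345.TiT2.LinFive

open Cfsg.Agent.H345.TiT2.GLFive

universe u

section
variable {W : Type u} [CommGroup W] [Module (ZMod 5) (Additive W)]

/-- automorphisms as linear maps -/
def linHom : MulAut W →* (Additive W →ₗ[ZMod 5] Additive W)ˣ where
  toFun e :=
    { val := (MulEquiv.toAdditive e).toAddMonoidHom.toZModLinearMap 5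
      inv := (MulEquiv.toAdditive e⁻¹).toAddMonoidHom.toZModLinearMap 5
      val_inv := by
        ext w
        change Additive.ofMul (e (e⁻¹ (Additive.toMul w))) = w
        rw [MulAut.apply_inv_self]; rfl
      inv_val := by
        ext w
        change Additive.ofMul (e⁻¹ (e (Additive.toMul w))) = w
        rw [MulAut.inv_apply_self]; rfl }
  map_one' := by
    apply Units.ext
    ext w
    rfl
  map_mul' e f := by
    apply Units.ext
    ext w
    rfl

theorem linHom_apply (e : MulAut W) (w : W) :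
    ((linHom e : (Additive W →ₗ[ZMod 5] Additive W)ˣ) : Additive W →ₗ[ZMod 5] Additive W) (Additive.ofMul w) =
      Additive.ofMul (e w) := rfl

theorem linHom_injective : Function.Injective (linHom (W := W)) := by
  intro e f h
  ext w
  have h1 := congrArg (fun t : (Additive W →ₗ[ZMod 5] Additive W)ˣ =>
    (t : Additive W →ₗ[ZMod 5] Additive W) (Additive.ofMul w)) h
  exact h1

/-- automorphisms as matrices -/
noncomputable def matHom (b : Module.Basis (Fin 2) (ZMod 5) (Additive W)) : MulAut W →* GL (Fin 2) (ZMod 5) :=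
  (Units.map (LinearMap.toMatrixAlgEquiv b : (Additive W →ₗ[ZMod 5] Additive W) ≃ₐ[ZMod 5] _).toMonoidHom).comp linHom

theorem matHom_injective (b : Module.Basis (Fin 2) (ZMod 5) (Additive W)) : Function.Injective (matHom b) := by
  intro e f h
  apply linHom_injective
  apply Units.ext
  apply (LinearMap.toMatrixAlgEquiv b).injective
  exact congrArg Units.val h

theorem matHom_apply (b : Module.Basis (Fin 2) (ZMod 5) (Additive W)) (e : MulAut W) (i k : Fin 2) :
    (matHom b e : Matrix (Fin 2) (Fin 2) (ZMod 5)) i k = b.repr (Additive.ofMul (e (b k).toMul)) i := by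
  change LinearMap.toMatrixAlgEquiv b (linHom e : Additive W →ₗ[ZMod 5] Additive W) i k = _
  rw [LinearMap.toMatrixAlgEquiv_apply]
  rfl

/-- a diagonal automorphism -/
theorem en_diag (b : Module.Basis (Fin 2) (ZMod 5) (Additive W)) {x y : W} (hx : b 0 = Additive.ofMul x)
    (hy : b 1 = Additive.ofMul y) {e : MulAut W} {s t : ZMod 5}
    (h1 : Additive.ofMul (e x) = s • Additive.ofMul x) (h2 : Additive.ofMul (e y) = t • Additive.ofMul y) :
    en (matHom b e) = (s, 0, 0, t) := by
  have e0 : Additive.ofMul (e (b 0).toMul) = s • b 0 := by rw [hx]; exact h1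
  have e1 : Additive.ofMul (e (b 1).toMul) = t • b 1 := by rw [hy]; exact h2
  unfold en
  rw [matHom_apply, matHom_apply, matHom_apply, matHom_apply, e0, e1]
  simp

end

section
variable {V : Type u} [AddCommGroup V] [Module (ZMod 5) V]

/-- the eigenvectors -/
theorem eig (hV : Nat.card V = 25) {τ ρ : V →ₗ[ZMod 5] V} {x : V} (hx0 : x ≠ 0) (hx : τ x = x)
    (h4 : ∀ v, τ (τ (τ (τ v))) = v) (h2 : ∃ v, τ (τ v) ≠ v) (hcomm : ∀ v, ρ (τ v) = τ (ρ v))
    (hinj : Function.Injective ρ) :
    ∃ (b : Module.Basis (Fin 2) (ZMod 5) V) (y : V) (l m : ZMod 5), b 0 = x ∧ b 1 = y ∧ l * l = -1 ∧ m ≠ 0 ∧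
      τ y = l • y ∧ ρ y = m • y := by
  obtain ⟨p, hp⟩ := h2
  -- `q = (τ² - 1) p`
  have hq0 : τ (τ p) - p ≠ 0 := sub_ne_zero.2 hp
  have hq : τ (τ (τ (τ p) - p)) = - (τ (τ p) - p) := by
    rw [map_sub, map_sub, h4]
    abel
  set q := τ (τ p) - p with hqdef
  obtain ⟨y, l, hy0, hy, hl⟩ : ∃ (y : V) (l : ZMod 5), y ≠ 0 ∧ τ y = l • y ∧ l * l = -1 := by
    by_cases h : τ q + (2 : ZMod 5) • q = 0
    · refine ⟨q, 3, hq0, ?_, by decide⟩
      have h1 : τ q = -((2 : ZMod 5) • q) := eq_neg_of_add_eq_zero_left h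
      rw [h1, ← neg_smul]
      congr 1
    · refine ⟨_, 2, h, ?_, by decide⟩
      rw [map_add, map_smul, hq, smul_add, smul_smul]
      have h1 : ((2 : ZMod 5) * 2) = -1 := by decide
      rw [h1, neg_smul, one_smul, add_comm]
  have hl1 : l - 1 ≠ 0 := by
    intro h
    rw [sub_eq_zero] at h
    rw [h] at hl
    exact absurd hl (by decide)
  have hli : LinearIndependent (ZMod 5) ![x, y] := by
    rw [LinearIndependent.pair_iff]
    intro s t hst
    have h1 : s • x + (l * t) • y = 0 := by
      have h2 := congrArg τ hst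
      rw [map_add, map_smul, map_smul, hx, hy, map_zero, smul_smul, mul_comm] at h2
      exact h2
    have h2 : ((l - 1) * t) • y = 0 := by
      have h3 : ((l - 1) * t) • y = (s • x + (l * t) • y) - (s • x + t • y) := by
        rw [sub_mul, one_mul, sub_smul]
        abel
      rw [h3, h1, hst, sub_zero]
    have h3 : t = 0 := by
      rcases smul_eq_zero.1 h2 with h | h
      · rcases mul_eq_zero.1 h with h | h
        · exact absurd h hl1
        · exact h
      · exact absurd h hy0
    rw [h3, zero_smul, add_zero] at hst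
    rcases smul_eq_zero.1 hst with h | h
    · exact ⟨h, h3⟩
    · exact absurd h hx0
  have hfin : Finite V := Nat.finite_of_card_ne_zero (by rw [hV]; norm_num)
  have hfr : Fintype.card (Fin 2) = Module.finrank (ZMod 5) V := by
    have : Module.Finite (ZMod 5) V := Module.Finite.of_finite
    have h1 := Module.natCard_eq_pow_finrank (K := ZMod 5) (V := V)
    rw [hV, Nat.card_eq_fintype_card, ZMod.card] at h1
    rw [Fintype.card_fin]
    exact (Nat.pow_right_injective (le_refl 2 |>.trans (by norm_num : 2 ≤ 5)) (show 5 ^ 2 = _ by norm_num; exact h1))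
  set b := basisOfLinearIndependentOfCardEqFinrank hli hfr with hb
  have hb' : ⇑b = ![x, y] := coe_basisOfLinearIndependentOfCardEqFinrank hli hfr
  have b0 : b 0 = x := by rw [hb']; rfl
  have b1 : b 1 = y := by rw [hb']; rfl
  -- `ρ y`
  have hsum := b.sum_repr (ρ y)
  rw [Fin.sum_univ_two, b0, b1] at hsum
  set s := b.repr (ρ y) 0
  set m := b.repr (ρ y) 1
  have h1 : s • x + (l * m) • y = l • (s • x + m • y) := by
    rw [hsum]
    have h2 : τ (ρ y) = l • ρ y := by rw [← hcomm, hy, map_smul]
    rw [← h2, ← hsum, map_add, map_smul, map_smul, hx, hy, smul_smul, mul_comm m l]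
  have hs : s = 0 := by
    have h2 : ((1 - l) * s) • x = 0 := by
      have h3 : ((1 - l) * s) • x = (s • x + (l * m) • y) - (l • (s • x + m • y)) := by
        rw [sub_mul, one_mul, sub_smul, smul_add, smul_smul, smul_smul]
        abel
      rw [h3, h1, sub_self]
    rcases smul_eq_zero.1 h2 with h | h
    · rcases mul_eq_zero.1 h with h | h
      · exfalso
        apply hl1
        rw [← neg_sub, h, neg_zero]
      · exact h
    · exact absurd h hx0
  have hρ : ρ y = m • y := by
    rw [← hsum, hs, zero_smul, zero_add]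
  refine ⟨b, y, l, m, b0, b1, hl, ?_, hy, hρ⟩
  intro hm
  rw [hm, zero_smul] at hρ
  exact hy0 (hinj (by rw [hρ, map_zero]))

end

/-- the powers of a diagonal matrix -/
theorem en_pow {g : GL (Fin 2) (ZMod 5)} {a d : ZMod 5} (h : en g = (a, 0, 0, d)) (n : ℕ) :
    en (g ^ n) = (a ^ n, 0, 0, d ^ n) := by
  induction n with
  | zero => rw [pow_zero, pow_zero, pow_zero, en_one]
  | succ n ih =>
    rw [pow_succ, en_mul, ih, h, pow_succ, pow_succ]
    unfold mu
    simp

theorem gen_diag : ∀ l m s t : ZMod 5, l * l = -1 → m ≠ 0 → s ≠ 0 → t ≠ 0 →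
    ∃ i j : Fin 4, (2 : ZMod 5) ^ (i : ℕ) = s ∧ m ^ (i : ℕ) * l ^ (j : ℕ) = t := by
  decide +kernel

/-- the diagonal torus is generated by the two elements -/
theorem diag_of {H : Subgroup (GL (Fin 2) (ZMod 5))} {J R : GL (Fin 2) (ZMod 5)} {l m : ZMod 5}
    (hJ : J ∈ H) (hR : R ∈ H) (eJ : en J = (1, 0, 0, l)) (eR : en R = (2, 0, 0, m)) (hl : l * l = -1) (hm : m ≠ 0) :
    Diag H := by
  intro s t hs ht
  obtain ⟨i, j, h1, h2⟩ := gen_diag l m s t hl hm hs ht
  refine ⟨R ^ (i : ℕ) * J ^ (j : ℕ), mul_mem (pow_mem hR _) (pow_mem hJ _), ?_⟩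
  rw [en_mul, en_pow eR, en_pow eJ]
  unfold mu
  simp only [one_pow, mul_one, mul_zero, add_zero, zero_mul, zero_add]
  rw [h1, h2]

end Cfsg.Agent.H345.TiT2.LinFive
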