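import Cfsg.Agent.H345.TiT2.Sing
import Cfsg.Agent.H345.TiT2.LinFive
import Cfsg.Agent.H697.ClassCount

/-!
# The normalizer of the Sylow 5-subgroup of `²F₄(2)` and of the Tits group (helper345, for S4819 / S4820)

* `kG` : `N_G(P) / P` has 16 classes; `kN` : `N_T(P) / P` has 14 classes.
-/

set_option autoImplicit false
set_option linter.unusedSectionVars false

namespace Cfsg.Agent.H345.TiT2

open Subgroup Cfsg.Agent.H438.TI Cfsg.Agent.H345.TiT2.GLFive Cfsg.Agent.H345.TiT2.LinFive
open scoped Pointwise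

universe u

section
variable {G : Type u} [Group G] [Finite G] {N P : Subgroup G} {x j r : G}

theorem card_G (L : Loc N P x j r) (hN : Nat.card N = 17971200) : Nat.card G = 35942400 := by
  rw [← N.card_mul_index, hN, L.index]

theorem fac5 (L : Loc N P x j r) (hN : Nat.card N = 17971200) : (Nat.card G).factorization 5 = 2 := by
  rw [card_G L hN, show (35942400 : ℕ) = 5 ^ 2 * 1437696 by norm_num, Nat.factorization_mul (by norm_num) (by norm_num),
    Nat.Prime.factorization_pow (by norm_num)]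
  have h1 : (1437696 : ℕ).factorization 5 = 0 := Nat.factorization_eq_zero_of_not_dvd (by norm_num)
  simp [h1]

/-- move `x` into a given Sylow subgroup -/
theorem loc_conj (L : Loc N P x j r) (hN : Nat.card N = 17971200) (P0 : Subgroup G) (hP0 : Nat.card P0 = 25) :
    ∃ x' j' r' : G, Loc N P0 x' j' r' ∧ x' ∈ P0 := by
  have : Fact (Nat.Prime 5) := ⟨by norm_num⟩
  have hf := fac5 L hN
  let Q : Sylow 5 G := Sylow.ofCard P (by rw [hf, L.P_card]; norm_num)
  let Q0 : Sylow 5 G := Sylow.ofCard P0 (by rw [hf, hP0]; norm_num)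
  obtain ⟨c, hc⟩ := MulAction.exists_smul_eq G Q0 Q
  -- c P0 c⁻¹ = P
  have hc1 : ∀ t : G, t ∈ P0 ↔ c * t * c⁻¹ ∈ P := by
    intro t
    have h1 : (Q : Subgroup G) = MulAut.conj c • (Q0 : Subgroup G) := by rw [← hc]; rfl
    have h2 : (Q : Subgroup G) = P := rfl
    have h3 : (Q0 : Subgroup G) = P0 := rfl
    rw [h2, h3] at h1
    rw [h1, Subgroup.mem_pointwise_smul_iff_inv_smul_mem, ← map_inv, MulAut.smul_def, MulAut.conj_apply]
    have h4 : c⁻¹ * (c * t * c⁻¹) * c⁻¹⁻¹ = t := by group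
    rw [h4]
  obtain ⟨y, hy, hy1⟩ : ∃ y ∈ P, y ≠ 1 := by
    by_contra h
    push Not at h
    have h1 : P = ⊥ := (eq_bot_iff_forall P).2 h
    have h2 := L.P_card
    rw [h1, card_bot] at h2
    norm_num at h2
  obtain ⟨g, hg, hgy⟩ := L.P_fus y hy hy1
  have hnorm : N.Normal := Subgroup.normal_of_index_eq_two L.index
  set h : G := c⁻¹ * g with hh
  have cj : ∀ a b : G, h * (a * b) * h⁻¹ = (h * a * h⁻¹) * (h * b * h⁻¹) := fun a b => by group
  have hmem : ∀ a : G, a ∈ N ↔ h * a * h⁻¹ ∈ N := fun a => by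
    constructor
    · intro ha; exact hnorm.conj_mem _ ha _
    · intro ha
      have h1 := hnorm.conj_mem _ ha h⁻¹
      have h2 : h⁻¹ * (h * a * h⁻¹) * h⁻¹⁻¹ = a := by group
      rwa [h2] at h1
  have hord : ∀ a : G, orderOf (h * a * h⁻¹) = orderOf a := fun a =>
    (orderOf_isConj (isConj_iff.2 ⟨h, rfl⟩)).symm
  have hx' : h * x * h⁻¹ ∈ P0 := by
    rw [hc1]
    have h1 : c * (h * x * h⁻¹) * c⁻¹ = g * x * g⁻¹ := by rw [hh]; group
    rw [h1, hgy]
    exact hy
  refine ⟨h * x * h⁻¹, h * j * h⁻¹, h * r * h⁻¹, ?_, hx'⟩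
  refine ⟨L.index, (hmem x).1 L.xN, by rw [hord, L.ox], fun h1 => L.jN ((hmem j).2 h1), by rw [hord, L.oj], ?_,
    (hmem r).1 L.rN, ?_, ?_, ?_, ?_, ?_, hP0, ?_⟩
  · rw [← cj, ← cj, L.comm]
  · have h1 : h * r * h⁻¹ * (h * x * h⁻¹) * (h * r * h⁻¹)⁻¹ = h * (r * x * r⁻¹) * h⁻¹ := by group
    rw [h1, L.rx, conj_pow]
  · rw [← cj, ← cj, L.rj]
  · intro t ht1 ht2
    have e1 : (h⁻¹ * t * h) * x = x * (h⁻¹ * t * h) := by
      calc (h⁻¹ * t * h) * x = h⁻¹ * (t * (h * x * h⁻¹)) * h := by group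
        _ = x * (h⁻¹ * t * h) := by rw [ht1]; group
    have e2 : (h⁻¹ * t * h) * (j * j) = (j * j) * (h⁻¹ * t * h) := by
      calc (h⁻¹ * t * h) * (j * j) = h⁻¹ * (t * (h * j * h⁻¹ * (h * j * h⁻¹))) * h := by group
        _ = (j * j) * (h⁻¹ * t * h) := by rw [ht2]; group
    obtain ⟨k, l, hkl⟩ := L.cent _ e1 e2
    refine ⟨k, l, ?_⟩
    calc t = h * (h⁻¹ * t * h) * h⁻¹ := by group
      _ = (h * x * h⁻¹) ^ k * (h * j * h⁻¹) ^ l := by rw [hkl, cj, conj_pow, conj_pow]
  · rw [← L.c50]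
    refine Nat.card_congr ⟨fun t => ⟨h⁻¹ * t.1 * h, ?_, ?_⟩, fun t => ⟨h * t.1 * h⁻¹, ?_, ?_⟩, ?_, ?_⟩
    · have h1 := mem_centralizer_singleton_iff.1 t.2.1
      apply mem_centralizer_singleton_iff.2
      calc (h⁻¹ * t.1 * h) * x = h⁻¹ * (t.1 * (h * x * h⁻¹)) * h := by group
        _ = x * (h⁻¹ * t.1 * h) := by rw [h1]; group
    · have h1 : (t : G) ∈ N := t.2.2
      show h⁻¹ * t.1 * h ∈ N
      rw [hmem]
      have h2 : h * (h⁻¹ * t.1 * h) * h⁻¹ = t := by group
      rw [h2]
      exact h1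
    · have h1 := mem_centralizer_singleton_iff.1 t.2.1
      apply mem_centralizer_singleton_iff.2
      rw [← cj, ← cj, h1]
    · exact (hmem _).1 t.2.2
    · intro t
      apply Subtype.ext
      show h * (h⁻¹ * t.1 * h) * h⁻¹ = t
      group
    · intro t
      apply Subtype.ext
      show h⁻¹ * (h * t.1 * h⁻¹) * h = t
      group
  · intro t ht
    have h1 : c * t * c⁻¹ ∈ N := L.P_le ((hc1 t).1 ht)
    have h2 := hnorm.conj_mem _ h1 c⁻¹
    have h3 : c⁻¹ * (c * t * c⁻¹) * c⁻¹⁻¹ = t := by group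
    rwa [h3] at h2
  · intro z hz hz1
    obtain ⟨g', hg', hgz⟩ := L.P_fus (c * z * c⁻¹) ((hc1 z).1 hz) (by
      intro h1
      apply hz1
      calc z = c⁻¹ * (c * z * c⁻¹) * c := by group
        _ = 1 := by rw [h1]; group)
    -- c⁻¹ g' x g'⁻¹ c = z ; conjugating element c⁻¹ g' h⁻¹ = c⁻¹ g' g⁻¹ c
    refine ⟨c⁻¹ * (g' * g⁻¹) * c, ?_, ?_⟩
    · have h1 := hnorm.conj_mem _ (mul_mem hg' (inv_mem hg)) c⁻¹
      rwa [inv_inv] at h1
    · calc c⁻¹ * (g' * g⁻¹) * c * (h * x * h⁻¹) * (c⁻¹ * (g' * g⁻¹) * c)⁻¹ = c⁻¹ * (g' * x * g'⁻¹) * c := by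
            rw [hh]; group
        _ = z := by rw [hgz]; group

/-- uniqueness of the Sylow 5-subgroup of the centralizer -/
theorem uniq (L : Loc N P x j r) {A B : Subgroup G} (hA : Nat.card A = 25) (hB : Nat.card B = 25)
    (hA' : ∀ a ∈ A, a * x = x * a) (hB' : ∀ a ∈ B, a * x = x * a) : A = B := by
  have : Fact (Nat.Prime 5) := ⟨by norm_num⟩
  set C := centralizer ({x} : Set G) with hC
  have hcard : Nat.card C = 100 := card_cent L
  have hf : (Nat.card C).factorization 5 = 2 := by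
    rw [hcard, show (100 : ℕ) = 5 ^ 2 * 4 by norm_num, Nat.factorization_mul (by norm_num) (by norm_num),
      Nat.Prime.factorization_pow (by norm_num)]
    have h1 : (4 : ℕ).factorization 5 = 0 := Nat.factorization_eq_zero_of_not_dvd (by norm_num)
    simp [h1]
  have hAC : A ≤ C := fun a ha => mem_centralizer_singleton_iff.2 (hA' a ha)
  have hBC : B ≤ C := fun a ha => mem_centralizer_singleton_iff.2 (hB' a ha)
  let QA : Sylow 5 C := Sylow.ofCard (A.subgroupOf C) (by
    rw [hf, Nat.card_congr (Subgroup.subgroupOfEquivOfLe hAC).toEquiv, hA]; norm_num)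
  let QB : Sylow 5 C := Sylow.ofCard (B.subgroupOf C) (by
    rw [hf, Nat.card_congr (Subgroup.subgroupOfEquivOfLe hBC).toEquiv, hB]; norm_num)
  have h1 : Nat.card (Sylow 5 C) ≡ 1 [MOD 5] := card_sylow_modEq_one 5 C
  have h2 : Nat.card (Sylow 5 C) ∣ 4 := by
    have h3 := QA.card_dvd_index
    have h4 := (QA : Subgroup C).card_mul_index
    have h5 : Nat.card (QA : Subgroup C) = 25 := by
      show Nat.card (A.subgroupOf C) = 25
      rw [Nat.card_congr (Subgroup.subgroupOfEquivOfLe hAC).toEquiv, hA]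
    rw [h5, hcard] at h4
    have h6 : (QA : Subgroup C).index = 4 := by omega
    rwa [h6] at h3
  have h3 : Nat.card (Sylow 5 C) = 1 := by
    have h4 : Nat.card (Sylow 5 C) ≤ 4 := Nat.le_of_dvd (by norm_num) h2
    have h5 : Nat.card (Sylow 5 C) % 5 = 1 := h1
    omega
  have h4 : Subsingleton (Sylow 5 C) := (Nat.card_eq_one_iff_unique.1 h3).1
  have h5 : (QA : Subgroup C) = QB := congrArg _ (h4.elim QA QB)
  have h6 : A.subgroupOf C = B.subgroupOf C := h5
  have h7 := congrArg (Subgroup.map C.subtype) h6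
  rwa [subgroupOf_map_subtype, subgroupOf_map_subtype, inf_eq_left.2 hAC, inf_eq_left.2 hBC] at h7

theorem P_comm (L : Loc N P x j r) : ∀ a ∈ P, ∀ b ∈ P, a * b = b * a := by
  have : Fact (Nat.Prime 5) := ⟨by norm_num⟩
  have h1 : IsMulCommutative P := by
    have h2 : Nat.card P = 5 ^ 2 := by rw [L.P_card]; norm_num
    exact IsPGroup.isMulCommutative_of_card_eq_prime_sq h2
  intro a ha b hb
  exact congrArg Subtype.val (h1.is_comm.comm (⟨a, ha⟩ : P) ⟨b, hb⟩)

theorem P_pow (L : Loc N P x j r) : ∀ a ∈ P, a ^ 5 = 1 := by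
  intro a ha
  by_cases h : a = 1
  · rw [h, one_pow]
  · obtain ⟨g, -, hg⟩ := L.P_fus a ha h
    have hx5 : x ^ 5 = 1 := by rw [← L.ox]; exact pow_orderOf_eq_one x
    rw [← hg, conj_pow, hx5, mul_one, mul_inv_cancel]

/-- conjugation of a subgroup of order 25 -/
theorem conj_le (L : Loc N P x j r) (hx : x ∈ P) {g : G} (hg : g⁻¹ * x * g ∈ P) :
    g ∈ normalizer (P : Set G) := by
  -- g P g⁻¹ = P
  have h1 : P.map (MulAut.conj g).toMonoidHom = P := by
    refine uniq L ?_ L.P_card ?_ fun a ha => P_comm L a ha x hx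
    · rw [← L.P_card]
      exact (Nat.card_congr (P.equivMapOfInjective _ (MulAut.conj g).injective).toEquiv).symm
    · rintro _ ⟨a, ha, rfl⟩
      show g * a * g⁻¹ * x = x * (g * a * g⁻¹)
      have h2 := P_comm L a ha _ hg
      calc g * a * g⁻¹ * x = g * (a * (g⁻¹ * x * g)) * g⁻¹ := by group
        _ = x * (g * a * g⁻¹) := by rw [h2]; group
  rw [mem_normalizer_iff]
  intro t
  constructor
  · intro ht
    have h2 : (MulAut.conj g).toMonoidHom t ∈ P.map (MulAut.conj g).toMonoidHom := ⟨t, ht, rfl⟩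
    rw [h1] at h2
    exact h2
  · intro ht
    rw [← SetLike.mem_coe, ← h1] at ht
    obtain ⟨s, hs, hs'⟩ := ht
    have h2 : g * s * g⁻¹ = g * t * g⁻¹ := hs'
    have h3 : s = t := by
      have h4 := mul_right_cancel h2
      exact mul_left_cancel h4
    rw [← h3]
    exact hs

theorem cent_le (L : Loc N P x j r) (hx : x ∈ P) {g : G} (hg : g * x = x * g) : g ∈ normalizer (P : Set G) := by
  apply conj_le L hx
  have h1 : g⁻¹ * x * g = x := by
    rw [mul_assoc, ← hg]; group
  rw [h1]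
  exact hx

/-- `|N_G(P)| = 2400` -/
theorem card_NP (L : Loc N P x j r) (hx : x ∈ P) : Nat.card (normalizer (P : Set G)) = 2400 := by
  set M := normalizer (P : Set G) with hM
  let x0 : P := ⟨x, hx⟩
  have h1 := MulAction.index_stabilizer M x0
  have hact : ∀ (m : M) (p : P), ((m • p : P) : G) = m * p * (m : G)⁻¹ := fun m p => rfl
  have h2 : MulAction.orbit M x0 = {p : P | p ≠ 1} := by
    ext p
    constructor
    · rintro ⟨m, rfl⟩
      intro h
      have h3 := congrArg Subtype.val h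
      simp only [hact, coe_one] at h3
      rw [mul_inv_eq_one, mul_eq_left] at h3
      have h4 := L.ox
      have h5 : x = 1 := h3
      rw [h5, orderOf_one] at h4
      norm_num at h4
    · intro hp
      have hp' : (p : G) ≠ 1 := fun h => hp (Subtype.ext h)
      obtain ⟨g, -, hg⟩ := L.P_fus p p.2 hp'
      have h3 : g⁻¹ ∈ M := by
        apply conj_le L hx
        rw [inv_inv, hg]
        exact p.2
      refine ⟨⟨g, (inv_mem_iff.1 h3)⟩, Subtype.ext ?_⟩
      exact hg
  have h3 : (MulAction.orbit M x0).ncard = 24 := by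
    rw [h2]
    have h4 : ({p : P | p ≠ 1} : Set P) = Set.univ \ {1} := by
      ext p; simp
    rw [h4, Set.ncard_sdiff (Set.subset_univ _), Set.ncard_univ, Set.ncard_singleton, L.P_card]
  have h4 : Nat.card (MulAction.stabilizer M x0) = 100 := by
    rw [← card_cent L]
    refine Nat.card_congr ⟨fun m => ⟨m.1, ?_⟩, fun c => ⟨⟨c, ?_⟩, ?_⟩, ?_, ?_⟩
    · have h5 := congrArg Subtype.val (MulAction.mem_stabilizer_iff.1 m.2)
      rw [hact] at h5
      apply mem_centralizer_singleton_iff.2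
      exact mul_inv_eq_iff_eq_mul.1 h5
    · exact cent_le L hx (mem_centralizer_singleton_iff.1 c.2)
    · rw [MulAction.mem_stabilizer_iff]
      apply Subtype.ext
      rw [hact]
      exact mul_inv_eq_iff_eq_mul.2 (mem_centralizer_singleton_iff.1 c.2)
    · intro m; rfl
    · intro c; rfl
  have h5 := (MulAction.stabilizer M x0).card_mul_index
  rw [h1, h3, h4] at h5
  exact h5.symm

theorem jN_mem (L : Loc N P x j r) (hx : x ∈ P) : j ∈ normalizer (P : Set G) := cent_le L hx L.comm.symm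

theorem rN_mem (L : Loc N P x j r) (hx : x ∈ P) : r ∈ normalizer (P : Set G) := by
  rw [← inv_mem_iff]
  apply conj_le L hx
  rw [inv_inv, L.rx]
  exact pow_mem hx 2

/-- `C_G(P) = P` -/
theorem cent_P (L : Loc N P x j r) (hx : x ∈ P) {g : G} (hg : ∀ p ∈ P, g * p * g⁻¹ = p) : g ∈ P := by
  -- the 5'-part
  have : Fact (Nat.Prime 5) := ⟨by norm_num⟩
  have hcx : g * x = x * g := mul_inv_eq_iff_eq_mul.1 (hg x hx)
  -- `P` does not centralize `j²`
  have hj2 : ∀ h : G, ¬ (∀ p ∈ P, (h * (j ^ 2) * h⁻¹) * p = p * (h * (j ^ 2) * h⁻¹)) ∨ ¬ (h * x = x * h) := by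
    intro h
    by_contra hcon
    push Not at hcon
    obtain ⟨h1, h2⟩ := hcon
    have hhN : h ∈ normalizer (P : Set G) := cent_le L hx h2
    -- every element of `P` is `x ^ k j ^ l`
    have h3 : ∀ p ∈ P, ∃ k l : ℕ, p = x ^ k * j ^ l := by
      intro p hp
      refine L.cent p (P_comm L p hp x hx) ?_
      have h4 : h * p * h⁻¹ ∈ P := (mem_normalizer_iff.1 hhN p).1 hp
      have h5 := h1 _ h4
      rw [← pow_two]
      calc p * j ^ 2 = h⁻¹ * ((h * p * h⁻¹) * (h * j ^ 2 * h⁻¹)) * h := by group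
        _ = h⁻¹ * ((h * j ^ 2 * h⁻¹) * (h * p * h⁻¹)) * h := by rw [h5]
        _ = j ^ 2 * p := by group
    -- so `P ≤ ⟨x⟩`
    have h4 : P ≤ zpowers x := by
      intro p hp
      obtain ⟨k, l, hkl⟩ := h3 p hp
      have hc : Commute x j := L.comm
      have h5 : j ^ (5 * l) = 1 := by
        have h6 := P_pow L p hp
        rw [hkl, ((hc.pow_left k).pow_right l).mul_pow, ← pow_mul, ← pow_mul, mul_comm k 5, pow_mul x 5] at h6
        have hx5 : x ^ 5 = 1 := by rw [← L.ox]; exact pow_orderOf_eq_one x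
        rw [hx5, one_pow, one_mul, mul_comm l 5] at h6
        exact h6
      have h6 : j ^ l = 1 := by
        have h7 := orderOf_dvd_of_pow_eq_one h5
        rw [L.oj] at h7
        have h8 : 4 ∣ l := (Nat.Coprime.dvd_of_dvd_mul_left (by norm_num) h7)
        obtain ⟨m, rfl⟩ := h8
        have hj4 : j ^ 4 = 1 := by rw [← L.oj]; exact pow_orderOf_eq_one j
        rw [pow_mul, hj4, one_pow]
      rw [hkl, h6, mul_one]
      exact pow_mem (mem_zpowers x) k
    have h5 := Subgroup.card_le_of_le h4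
    rw [L.P_card, Nat.card_zpowers, L.ox] at h5
    norm_num at h5
  -- `g ^ 25` is a 5'-element
  have hord : orderOf g ∣ 100 := by
    have h1 := orderOf_dvd_natCard (⟨g, mem_centralizer_singleton_iff.2 hcx⟩ : centralizer ({x} : Set G))
    rw [card_cent L, Subgroup.orderOf_mk] at h1
    exact h1
  have hg25 : g ^ 25 = 1 := by
    by_contra hne
    have hpc : ∀ n : ℕ, ∀ p ∈ P, g ^ n * p = p * g ^ n := by
      intro n p hp
      have h1 : Commute g p := mul_inv_eq_iff_eq_mul.1 (hg p hp)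
      exact h1.pow_left n
    have h4 : (g ^ 25) ^ 4 = 1 := by
      rw [← pow_mul]
      exact orderOf_dvd_iff_pow_eq_one.1 hord
    -- an involution
    obtain ⟨i, hi, hi1, hi2⟩ : ∃ n : ℕ, g ^ n ≠ 1 ∧ (g ^ n) ^ 2 = 1 ∧ True := by
      by_cases h5 : (g ^ 25) ^ 2 = 1
      · exact ⟨25, hne, h5, trivial⟩
      · refine ⟨50, ?_, ?_, trivial⟩
        · rwa [← pow_mul] at h5
        · rw [← pow_mul] at h4 ⊢
          exact h4
    have hcop : Nat.Coprime (orderOf (g ^ i)) 5 := by
      have h5 : orderOf (g ^ i) ∣ 2 := orderOf_dvd_of_pow_eq_one hi1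
      exact Nat.Coprime.coprime_dvd_left h5 (by norm_num)
    obtain ⟨h, hh, k, hk, hk'⟩ := conj_pow_j L (hpc i x hx) hcop
    have ho : orderOf (j ^ k) = 2 := by
      rw [← hk']
      have h5 : orderOf (h * g ^ i * h⁻¹) = orderOf (g ^ i) := (orderOf_isConj (isConj_iff.2 ⟨h, rfl⟩)).symm
      rw [h5]
      exact orderOf_eq_prime hi1 hi
    have hk2 : k = 2 := by
      obtain ⟨o0, o1, o2, o3⟩ := orderOf_jk L
      interval_cases k <;> simp_all
    subst hk2
    rcases hj2 h⁻¹ with h5 | h5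
    · apply h5
      intro p hp
      have h6 : h⁻¹ * j ^ 2 * h⁻¹⁻¹ = g ^ i := by rw [← hk']; group
      rw [h6]
      exact hpc i p hp
    · apply h5
      calc h⁻¹ * x = h⁻¹ * (x * h) * h⁻¹ := by group
        _ = x * h⁻¹ := by rw [← hh]; group
  -- `g ∈ P`
  by_contra hgP
  -- `⟨P, g⟩` : the Sylow 5-subgroup of the centralizer
  have hp5 : IsPGroup 5 (zpowers g) := by
    have h1 : orderOf g ∣ 5 ^ 2 := orderOf_dvd_of_pow_eq_one hg25
    obtain ⟨m, hm, hm'⟩ := (Nat.dvd_prime_pow (by norm_num)).1 h1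
    exact IsPGroup.of_card (n := m) (by rw [Nat.card_zpowers, hm'])
  set C := centralizer ({x} : Set G) with hC
  have hcard : Nat.card C = 100 := card_cent L
  have hgC : g ∈ C := mem_centralizer_singleton_iff.2 hcx
  have hf : (Nat.card C).factorization 5 = 2 := by
    rw [hcard, show (100 : ℕ) = 5 ^ 2 * 4 by norm_num, Nat.factorization_mul (by norm_num) (by norm_num),
      Nat.Prime.factorization_pow (by norm_num)]
    have h1 : (4 : ℕ).factorization 5 = 0 := Nat.factorization_eq_zero_of_not_dvd (by norm_num)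
    simp [h1]
  have hpg : IsPGroup 5 (zpowers (⟨g, hgC⟩ : C)) := by
    have h1 : orderOf g ∣ 5 ^ 2 := orderOf_dvd_of_pow_eq_one hg25
    obtain ⟨m, hm, hm'⟩ := (Nat.dvd_prime_pow (by norm_num)).1 h1
    exact IsPGroup.of_card (n := m) (by rw [Nat.card_zpowers, Subgroup.orderOf_mk, hm'])
  obtain ⟨R, hR⟩ := hpg.exists_le_sylow
  have hRc : Nat.card (R : Subgroup C) = 25 := by
    rw [R.card_eq_multiplicity, hf]
    norm_num
  have h1 : (R : Subgroup C).map C.subtype = P := by
    refine uniq L ?_ L.P_card ?_ fun a ha => P_comm L a ha x hx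
    · rw [← hRc]
      exact (Nat.card_congr ((R : Subgroup C).equivMapOfInjective _ C.subtype_injective).toEquiv).symm
    · rintro _ ⟨a, -, rfl⟩
      exact mem_centralizer_singleton_iff.1 a.2
  apply hgP
  rw [← h1]
  exact ⟨⟨g, hgC⟩, hR (mem_zpowers _), rfl⟩

/-- the action of the normalizer on `P` as matrices -/
theorem exists_hom (L : Loc N P x j r) (hx : x ∈ P) : ∃ Φ : ↥(normalizer (P : Set G)) →* GL (Fin 2) (ZMod 5),
    Φ.ker = P.subgroupOf (normalizer (P : Set G)) ∧ Diag Φ.range := by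
  let _ : CommGroup P := { (inferInstance : Group P) with
    mul_comm := fun a b => Subtype.ext (P_comm L a a.2 b b.2) }
  have hpow : ∀ a : P, a ^ 5 = 1 := fun a => Subtype.ext (P_pow L a a.2)
  let _ : Module (ZMod 5) (Additive P) := AddCommGroup.zmodModule (n := 5) (fun a => by
    change Additive.ofMul ((Additive.toMul a) ^ 5) = 0
    rw [hpow]; rfl)
  let c : ↥(normalizer (P : Set G)) →* MulAut P := P.normalizerMonoidHom
  have hc : ∀ (m : ↥(normalizer (P : Set G))) (p : P), ((c m p : P) : G) = m * p * (m : G)⁻¹ := fun m p => rfl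
  let J : ↥(normalizer (P : Set G)) := ⟨j, jN_mem L hx⟩
  let R : ↥(normalizer (P : Set G)) := ⟨r, rN_mem L hx⟩
  let x0 : P := ⟨x, hx⟩
  have hj4 : j ^ 4 = 1 := by rw [← L.oj]; exact pow_orderOf_eq_one j
  have hJx : c J x0 = x0 := Subtype.ext (by
    rw [hc]
    exact mul_inv_eq_iff_eq_mul.2 L.comm.symm)
  have hRx : c R x0 = x0 ^ 2 := Subtype.ext (by
    rw [hc]
    exact L.rx)
  have hJ4 : ∀ p : P, c J (c J (c J (c J p))) = p := by
    intro p
    have h1 : J ^ 4 = 1 := Subtype.ext hj4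
    have h2 : c J (c J (c J (c J p))) = c (J ^ 4) p := by
      rw [map_pow]; rfl
    rw [h2, h1, map_one]; rfl
  have hJR : ∀ p : P, c R (c J p) = c J (c R p) := by
    intro p
    have h1 : R * J = J * R := Subtype.ext L.rj
    have h2 : c R (c J p) = c (R * J) p := by rw [map_mul]; rfl
    have h3 : c J (c R p) = c (J * R) p := by rw [map_mul]; rfl
    rw [h2, h3, h1]
  have hJ2 : ∃ p : P, c J (c J p) ≠ p := by
    by_contra hcon
    push Not at hcon
    have h1 : j ^ 2 ∈ P := by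
      apply cent_P L hx
      intro p hp
      have h2 := congrArg Subtype.val (hcon ⟨p, hp⟩)
      rw [hc, hc] at h2
      have h3 : j * (j * p * j⁻¹) * j⁻¹ = p := h2
      calc j ^ 2 * p * (j ^ 2)⁻¹ = j * (j * p * j⁻¹) * j⁻¹ := by
            rw [pow_two, mul_inv_rev]
            simp only [mul_assoc]
        _ = p := h3
    have h2 := P_pow L _ h1
    have h3 : j ^ 2 = 1 := by
      rw [← pow_mul] at h2
      have h4 : j ^ (2 * 5) = (j ^ 4) ^ 2 * j ^ 2 := by rw [← pow_mul, ← pow_add]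
      rw [h4, hj4, one_pow, one_mul] at h2
      exact h2
    have h4 := orderOf_dvd_of_pow_eq_one h3
    rw [L.oj] at h4
    norm_num at h4
  have hx0 : Additive.ofMul x0 ≠ 0 := by
    intro h
    have h1 : x0 = 1 := h
    have h2 : x = 1 := congrArg Subtype.val h1
    have h3 := L.ox
    rw [h2, orderOf_one] at h3
    norm_num at h3
  have hcardV : Nat.card (Additive P) = 25 := L.P_card
  obtain ⟨b, y, l, m, b0, b1, hl, hm, hJy, hRy⟩ := eig (V := Additive P) hcardV
    (τ := ((linHom (c J) : (Additive P →ₗ[ZMod 5] Additive P)ˣ) : Additive P →ₗ[ZMod 5] Additive P))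
    (ρ := ((linHom (c R) : (Additive P →ₗ[ZMod 5] Additive P)ˣ) : Additive P →ₗ[ZMod 5] Additive P))
    (x := Additive.ofMul x0) hx0 (congrArg Additive.ofMul hJx) (fun v => congrArg Additive.ofMul (hJ4 v.toMul))
    (by
      obtain ⟨p, hp⟩ := hJ2
      exact ⟨Additive.ofMul p, fun h => hp h⟩)
    (fun v => congrArg Additive.ofMul (hJR v.toMul))
    (fun v w h => (c R).injective h)
  refine ⟨(matHom b).comp c, ?_, ?_⟩
  · ext m
    rw [MonoidHom.mem_ker, MonoidHom.comp_apply, mem_subgroupOf]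
    constructor
    · intro h
      have h1 : c m = 1 := matHom_injective b (by rw [h, map_one])
      apply cent_P L hx
      intro p hp
      have h2 := congrArg Subtype.val (congrArg (fun e : MulAut P => e ⟨p, hp⟩) h1)
      exact h2
    · intro h
      have h1 : c m = 1 := by
        ext p
        rw [hc]
        have h2 := P_comm L _ h p p.2
        rw [h2, mul_inv_cancel_right]
        rfl
      rw [h1, map_one]
  · have eJ : en (matHom b (c J)) = (1, 0, 0, l) := by
      refine en_diag b (x := x0) (y := y.toMul) b0 b1 ?_ hJy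
      rw [one_smul, hJx]
    have eR : en (matHom b (c R)) = (2, 0, 0, m) := by
      refine en_diag b (x := x0) (y := y.toMul) b0 b1 ?_ hRy
      rw [hRx]
      have h2 : ((2 : ZMod 5)) = ((2 : ℕ) : ZMod 5) := rfl
      rw [h2, Nat.cast_smul_eq_nsmul]
      rfl
    exact diag_of (H := ((matHom b).comp c).range) ⟨J, rfl⟩ ⟨R, rfl⟩ eJ eR hl hm

/-- the quotient and the image -/
theorem card_range {M : Type*} [Group M] [Finite M] {A : Type*} [Group A] {Φ : M →* A} {K : Subgroup M}
    (hK : Φ.ker = K) : Nat.card K * Nat.card Φ.range = Nat.card M := by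
  rw [← hK, mul_comm, ← Nat.card_congr (QuotientGroup.quotientKerEquivRange Φ).toEquiv]
  exact (Subgroup.card_eq_card_quotient_mul_card_subgroup Φ.ker).symm

theorem classes_quot {M : Type*} [Group M] {A : Type*} [Group A] {Φ : M →* A} {K : Subgroup M} [K.Normal]
    (hK : Φ.ker = K) : Nat.card (ConjClasses (M ⧸ K)) = Nat.card (ConjClasses Φ.range) :=
  H697.ClassCount.card_conjClasses_congr
    ((QuotientGroup.quotientMulEquivOfEq hK.symm).trans (QuotientGroup.quotientKerEquivRange Φ))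

theorem card_sub (L : Loc N P x j r) : Nat.card (P.subgroupOf (normalizer (P : Set G))) = 25 := by
  rw [Nat.card_congr (Subgroup.subgroupOfEquivOfLe le_normalizer).toEquiv, L.P_card]

theorem kG_aux (L : Loc N P x j r) (hx : x ∈ P) :
    Nat.card (ConjClasses (↥(normalizer (P : Set G)) ⧸ (P.subgroupOf (normalizer (P : Set G))))) = 16 := by
  obtain ⟨Φ, hker, hD⟩ := exists_hom L hx
  rw [classes_quot hker]
  refine classes_16 ?_ hD
  have h1 := card_range hker
  rw [card_sub L, card_NP L hx] at h1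
  omega

/-- **`k(N_G(P) / P) = 16`** -/
theorem kG (L : Loc N P x j r) (hN : Nat.card N = 17971200) {P0 : Subgroup G} (hP0 : Nat.card P0 = 25) :
    Nat.card (ConjClasses (↥(normalizer (P0 : Set G)) ⧸ (P0.subgroupOf (normalizer (P0 : Set G))))) = 16 := by
  obtain ⟨x', j', r', L', hx'⟩ := loc_conj L hN P0 hP0
  exact kG_aux L' hx'

/-- the Tits group itself -/
theorem kN (L : Loc N P x j r) (hN : Nat.card N = 17971200) {P1 : Subgroup N} (hP1 : Nat.card P1 = 25) :
    Nat.card (ConjClasses (↥(normalizer (P1 : Set N)) ⧸ (P1.subgroupOf (normalizer (P1 : Set N))))) = 14 := by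
  set P0 := P1.map N.subtype with hP0d
  have hP0 : Nat.card P0 = 25 := by
    rw [← hP1]
    exact (Nat.card_congr (P1.equivMapOfInjective _ N.subtype_injective).toEquiv).symm
  obtain ⟨x', j', r', L', hx'⟩ := loc_conj L hN P0 hP0
  obtain ⟨Φ, hker, hD⟩ := exists_hom L' hx'
  have hmem : ∀ n : N, n ∈ normalizer (P1 : Set N) ↔ (n : G) ∈ normalizer (P0 : Set G) := by
    intro n
    have hP : ∀ t : N, (t : G) ∈ P0 ↔ t ∈ P1 := by
      intro t
      constructor
      · rintro ⟨s, hs, hs'⟩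
        have h1 : s = t := Subtype.ext hs'
        rw [← h1]; exact hs
      · intro h; exact ⟨t, h, rfl⟩
    rw [mem_normalizer_iff, mem_normalizer_iff]
    constructor
    · intro h t
      constructor
      · intro ht
        obtain ⟨s, hs, rfl⟩ := ht
        have h1 := (h s).1 hs
        exact ⟨_, h1, rfl⟩
      · intro ht
        have htN : t ∈ N := by
          obtain ⟨s, hs, hs'⟩ := ht
          have h1 : (n : G) * t * (n : G)⁻¹ ∈ N := by rw [← hs']; exact s.2
          have h2 := mul_mem (mul_mem (inv_mem n.2) h1) n.2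
          have h3 : (n : G)⁻¹ * ((n : G) * t * (n : G)⁻¹) * n = t := by group
          rwa [h3] at h2
        have h1 : n * ⟨t, htN⟩ * n⁻¹ ∈ P1 := (hP _).1 ht
        exact (hP ⟨t, htN⟩).2 ((h ⟨t, htN⟩).2 h1)
    · intro h t
      rw [← hP, h t, ← hP]
      rfl
  let ι : ↥(normalizer (P1 : Set N)) →* ↥(normalizer (P0 : Set G)) :=
    (N.subtype.comp (normalizer (P1 : Set N)).subtype).codRestrict _ (fun n => (hmem n.1).1 n.2)
  have hι : Function.Injective ι := by
    intro a b h
    have h1 : ((a : N) : G) = ((b : N) : G) := congrArg (fun t : ↥(normalizer (P0 : Set G)) => (t : G)) h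
    exact Subtype.ext (Subtype.ext h1)
  have hker1 : (Φ.comp ι).ker = P1.subgroupOf (normalizer (P1 : Set N)) := by
    ext a
    rw [MonoidHom.mem_ker, MonoidHom.comp_apply, ← MonoidHom.mem_ker, hker, mem_subgroupOf, mem_subgroupOf]
    constructor
    · rintro ⟨s, hs, hs'⟩
      have h1 : s = a := Subtype.ext hs'
      rw [← h1]; exact hs
    · intro h
      exact ⟨_, h, rfl⟩
  rw [classes_quot hker1]
  have hc96 : Nat.card Φ.range = 96 := by
    have h1 := card_range hker
    rw [card_sub L', card_NP L' hx'] at h1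
    omega
  -- the index of the image of `ι`
  have hirange : ∀ m : ↥(normalizer (P0 : Set G)), m ∈ ι.range ↔ (m : G) ∈ N := by
    intro m
    constructor
    · rintro ⟨a, rfl⟩
      exact a.1.2
    · intro h
      exact ⟨⟨⟨m, h⟩, (hmem ⟨m, h⟩).2 m.2⟩, rfl⟩
  have hidx : ι.range.index = 2 := by
    rw [index_eq_two_iff]
    refine ⟨⟨j', jN_mem L' hx'⟩, fun b => ?_⟩
    rw [hirange, hirange]
    have h2 := L'.index
    have h3 := L'.jN
    rcases em ((b : G) ∈ N) with hb | hb
    · right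
      refine ⟨hb, fun h => h3 ((mul_mem_cancel_left hb).1 h)⟩
    · left
      refine ⟨?_, hb⟩
      show (b : G) * j' ∈ N
      rw [Subgroup.mul_mem_iff_of_index_two h2]
      exact iff_of_false hb h3
  have hcN1 : Nat.card ↥(normalizer (P1 : Set N)) = 1200 := by
    have h1 := ι.range.card_mul_index
    rw [hidx, card_NP L' hx', ← Nat.card_congr (MonoidHom.ofInjective hι).toEquiv] at h1
    omega
  refine classes_14 hc96 hD ?_ ?_
  · have h1 := card_range hker1
    rw [hcN1, Nat.card_congr (Subgroup.subgroupOfEquivOfLe le_normalizer).toEquiv, hP1] at h1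
    omega
  · rintro _ ⟨m, rfl⟩
    have h1 : m * m ∈ ι.range := by
      rw [hirange]
      exact Subgroup.mul_self_mem_of_index_two L'.index (m : G)
    obtain ⟨a, ha⟩ := h1
    exact ⟨a, by rw [MonoidHom.comp_apply, ha, map_mul]⟩

end

end Cfsg.Agent.H345.TiT2
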