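import Cfsg.Agent.H345.TiT2.Final
import Cfsg.Agent.H681.TI.McLRow
import Cfsg.Agent.S2115

/-!
# The row of the Tits group in S4819 / S4820 (helper345)

* `cnt_one`, `cnt_two`, `cnt_alm` : `Cnt 5 H` for `T ≤ H ≤ Aut T`;
* `cent_triv` : the `5'`-elements of `H` centralising a Sylow 5-subgroup are trivial;
* `rowTits_of` : `H723.TI.RowTits` from the sixteen characters of the Tits group.
-/

set_option autoImplicit false
set_option linter.unusedSectionVars false

namespace Cfsg.Agent.H345.TiT2

open Subgroup Cfsg Cfsg.Agent.H438.TI Cfsg.Agent.TitsK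

universe u v

section
variable {G : Type u} [Group G] [Finite G] {N P : Subgroup G} {x j r : G}

/-- the two singular classes of `N` -/
theorem card_sing_N (L : Loc N P x j r) (hN : Nat.card N = 17971200) : Nat.card (Cfsg.Agent.H34.TI.Sing 5 N) = 2 := by
  obtain ⟨o0, o1, o2, o3⟩ := orderOf_jk L
  have hodd : ∀ k : ℕ, j ^ (2 * k + 1) ∉ N := by
    intro k h
    have h1 : j ^ (2 * k) ∈ N := by
      rw [pow_mul]
      refine pow_mem ?_ k
      rw [pow_two]
      exact Subgroup.mul_self_mem_of_index_two L.index j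
    rw [pow_succ] at h
    exact L.jN ((mul_mem_cancel_left h1).1 h)
  have h2N : ∀ k : Fin 2, x * j ^ (2 * (k : ℕ)) ∈ N := by
    intro k
    refine mul_mem L.xN ?_
    rw [pow_mul]
    refine pow_mem ?_ _
    rw [pow_two]
    exact Subgroup.mul_self_mem_of_index_two L.index j
  have hord : ∀ k : Fin 2, orderOf (⟨x * j ^ (2 * (k : ℕ)), h2N k⟩ : N) = 5 * orderOf (j ^ (2 * (k : ℕ))) := by
    intro k
    rw [Subgroup.orderOf_mk]
    exact orderOf_xj L _
  let f : Fin 2 → Cfsg.Agent.H34.TI.Sing 5 N := fun k =>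
    ⟨ConjClasses.mk ⟨x * j ^ (2 * (k : ℕ)), h2N k⟩, by rw [orderOf_out, hord]; exact dvd_mul_right _ _⟩
  have hf : Function.Bijective f := by
    constructor
    · intro k l hkl
      have h1 : ConjClasses.mk (⟨x * j ^ (2 * (k : ℕ)), h2N k⟩ : N) = ConjClasses.mk ⟨x * j ^ (2 * (l : ℕ)), h2N l⟩ :=
        congrArg Subtype.val hkl
      rw [ConjClasses.mk_eq_mk_iff_isConj] at h1
      have h2 := orderOf_isConj h1
      rw [hord, hord] at h2
      fin_cases k <;> fin_cases l
      · rfl
      · simp [o2] at h2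
      · simp [o2] at h2
      · rfl
    · rintro ⟨c, hc⟩
      have hc' : 5 ∣ orderOf ((c.out : N) : G) := by rw [Subgroup.orderOf_coe]; exact hc
      obtain ⟨k, hk, hk'⟩ := isConj_xj L hN hc'
      obtain ⟨g, hg⟩ := isConj_iff.1 hk'
      have hnorm : N.Normal := Subgroup.normal_of_index_eq_two L.index
      have hxN : x * j ^ k ∈ N := by
        have h1 := hnorm.conj_mem _ (c.out).2 g⁻¹
        have h2 : g⁻¹ * ((c.out : N) : G) * g⁻¹⁻¹ = x * j ^ k := by rw [← hg]; group
        rwa [h2] at h1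
      have hjk : j ^ k ∈ N := (mul_mem_cancel_left L.xN).1 hxN
      obtain ⟨l, hl⟩ : ∃ l : Fin 2, k = 2 * (l : ℕ) := by
        interval_cases k
        · exact ⟨0, rfl⟩
        · exact absurd hjk (hodd 0)
        · exact ⟨1, rfl⟩
        · exact absurd hjk (hodd 1)
      subst hl
      refine ⟨l, Subtype.ext ?_⟩
      show ConjClasses.mk (⟨x * j ^ (2 * (l : ℕ)), h2N l⟩ : N) = c
      have hout : ConjClasses.mk c.out = c := Quotient.out_eq c
      rw [← hout, ConjClasses.mk_eq_mk_iff_isConj, isConj_iff]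
      -- adjust the conjugating element
      obtain ⟨g', hg'N, hg'⟩ : ∃ g' ∈ N, g' * (x * j ^ (2 * (l : ℕ))) * g'⁻¹ = ((c.out : N) : G) := by
        by_cases hgN : g ∈ N
        · exact ⟨g, hgN, hg⟩
        · refine ⟨g * j, ?_, ?_⟩
          · rw [Subgroup.mul_mem_iff_of_index_two L.index]
            exact iff_of_false hgN L.jN
          · have hc1 : Commute j (x * j ^ (2 * (l : ℕ))) :=
              (show Commute j x from L.comm.symm).mul_right ((Commute.refl j).pow_right _)
            calc g * j * (x * j ^ (2 * (l : ℕ))) * (g * j)⁻¹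
                = g * (j * (x * j ^ (2 * (l : ℕ))) * j⁻¹) * g⁻¹ := by group
              _ = g * (x * j ^ (2 * (l : ℕ))) * g⁻¹ := by rw [hc1.eq, mul_inv_cancel_right]
              _ = _ := hg
      exact ⟨⟨g', hg'N⟩, Subtype.ext hg'⟩
  rw [← Nat.card_eq_of_bijective f hf, Nat.card_eq_fintype_card, Fintype.card_fin]

/-- centralizer of a Sylow 5-subgroup in `N` -/
theorem cent_N (L : Loc N P x j r) (hN : Nat.card N = 17971200) {P1 : Subgroup N} (hP1 : Nat.card P1 = 25) {g : N}
    (hg : ∀ p ∈ P1, g * p * g⁻¹ = p) : g ∈ P1 := by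
  have hP0 : Nat.card (P1.map N.subtype) = 25 := by
    rw [← hP1]
    exact (Nat.card_congr (P1.equivMapOfInjective _ N.subtype_injective).toEquiv).symm
  obtain ⟨x', j', r', L', hx'⟩ := loc_conj L hN _ hP0
  have h1 : (g : G) ∈ P1.map N.subtype := by
    apply cent_P L' hx'
    rintro _ ⟨p, hp, rfl⟩
    exact congrArg Subtype.val (hg p hp)
  obtain ⟨s, hs, hs'⟩ := h1
  have h2 : s = g := Subtype.ext hs'
  rw [← h2]
  exact hs

theorem cent_G (L : Loc N P x j r) (hN : Nat.card N = 17971200) {P1 : Subgroup G} (hP1 : Nat.card P1 = 25) {g : G}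
    (hg : ∀ p ∈ P1, g * p * g⁻¹ = p) : g ∈ P1 := by
  obtain ⟨x', j', r', L', hx'⟩ := loc_conj L hN _ hP1
  exact cent_P L' hx' hg

end

/-- the Tits group as a subgroup of `HT` -/
theorem exists_equiv' {T : Type u} [Group T] (h : Lie.IsoTits T) : Nonempty (T ≃* ↥(TT.subgroupOf HT)) := by
  obtain ⟨e⟩ := Cfsg.Agent.CpAutTits.Row.exists_equiv h
  exact ⟨e.trans (Subgroup.subgroupOfEquivOfLe TT_le).symm⟩

theorem card_tits {T : Type u} [Group T] (h : Lie.IsoTits T) : Nat.card T = 17971200 := by
  obtain ⟨e⟩ := exists_equiv' h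
  rw [← card_TT']
  exact Nat.card_congr e.toEquiv

theorem fac_tits {T : Type u} [Group T] (h : Lie.IsoTits T) : (Nat.card T).factorization 5 = 2 := by
  rw [card_tits h, show (17971200 : ℕ) = 5 ^ 2 * 718848 by norm_num, Nat.factorization_mul (by norm_num) (by norm_num),
    Nat.Prime.factorization_pow (by norm_num)]
  have h1 : (718848 : ℕ).factorization 5 = 0 := Nat.factorization_eq_zero_of_not_dvd (by norm_num)
  simp [h1]

/-- transport of the singular classes -/
theorem sing_congr {G : Type u} [Group G] {G' : Type v} [Group G'] (e : G ≃* G') (p : ℕ) :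
    Nat.card (H34.TI.Sing p G) = Nat.card (H34.TI.Sing p G') := by
  have key : ∀ {A : Type u} {B : Type v} [Group A] [Group B] (f : A ≃* B) (c : ConjClasses A),
      p ∣ orderOf c.out ↔ p ∣ orderOf (ConjClasses.map f.toMonoidHom c).out := by
    intro A B _ _ f c
    obtain ⟨a, rfl⟩ := ConjClasses.mk_surjective c
    have h1 : ConjClasses.map f.toMonoidHom (ConjClasses.mk a) = ConjClasses.mk (f a) := rfl
    rw [h1, orderOf_out, orderOf_out, MulEquiv.orderOf_eq]
  let E : ConjClasses G ≃ ConjClasses G' :=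
    { toFun := ConjClasses.map e.toMonoidHom
      invFun := ConjClasses.map e.symm.toMonoidHom
      left_inv := by
        intro c
        obtain ⟨a, rfl⟩ := ConjClasses.mk_surjective c
        show ConjClasses.mk (e.symm (e a)) = _
        rw [e.symm_apply_apply]
      right_inv := by
        intro c
        obtain ⟨a, rfl⟩ := ConjClasses.mk_surjective c
        show ConjClasses.mk (e (e.symm a)) = _
        rw [e.apply_symm_apply] }
  exact Nat.card_congr (E.subtypeEquiv fun c => key e c)

/-- the counting lemma -/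
theorem cnt_aux {H : Type u} [Group H] [Finite H] {n : ℕ} (hf : (Nat.card H).factorization 5 = 2)
    (h1 : Nat.card {χ : IrrCharacter H // ¬ 25 ∣ charDegree (χ : H → ℂ)} = n) :
    Nat.card (ConjClasses H) = n + Nat.card {χ : IrrCharacter H // H34.TI.IsDz 5 χ} := by
  classical
  have hfin : Finite (IrrCharacter H) := Characters.Core.finite_irr
  have h2 : Nat.card (IrrCharacter H) = Nat.card (ConjClasses H) := Characters.Core.card_irr
  rw [← h2, ← Nat.card_congr (Equiv.sumCompl (fun χ : IrrCharacter H => H34.TI.IsDz 5 χ)), Nat.card_sum]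
  have h3 : Nat.card {χ : IrrCharacter H // ¬ H34.TI.IsDz 5 χ} = n := by
    rw [← h1]
    exact Nat.card_congr (Equiv.subtypeEquivRight fun χ => not_congr (isDz_iff hf χ))
  rw [h3]
  omega

/-- `k(N(P) / P) = 14` for the Tits group -/
theorem kT {T : Type u} [Group T] [Finite T] (h : Lie.IsoTits T) {P0 : Subgroup T} (hP0 : Nat.card P0 = 25) :
    Nat.card (ConjClasses (↥(normalizer (P0 : Set T)) ⧸ (P0.subgroupOf (normalizer (P0 : Set T))))) = 14 := by
  obtain ⟨e⟩ := exists_equiv' h
  obtain ⟨Q, x, j, r, L⟩ := loc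
  set P1 : Subgroup ↥(TT.subgroupOf HT) := P0.map e.toMonoidHom with hP1
  have hc : Nat.card P1 = 25 := by
    rw [← hP0]
    exact (Nat.card_congr (P0.equivMapOfInjective _ e.injective).toEquiv).symm
  rw [← kN L card_TT' hc]
  -- the isomorphism of the normalizers
  have hmem : ∀ t : T, e t ∈ P1 ↔ t ∈ P0 := by
    intro t
    constructor
    · rintro ⟨s, hs, hs'⟩
      have h1 : s = t := e.injective hs'
      rw [← h1]; exact hs
    · intro ht; exact ⟨t, ht, rfl⟩
  have hnm : ∀ t : T, e t ∈ normalizer (P1 : Set ↥(TT.subgroupOf HT)) ↔ t ∈ normalizer (P0 : Set T) := by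
    intro t
    rw [mem_normalizer_iff, mem_normalizer_iff]
    constructor
    · intro h1 s
      rw [← hmem, h1 (e s), ← hmem, map_mul, map_mul, map_inv]
    · intro h1 s
      obtain ⟨s, rfl⟩ := e.surjective s
      rw [hmem, h1 s, ← hmem, map_mul, map_mul, map_inv]
  let E : ↥(normalizer (P0 : Set T)) ≃* ↥(normalizer (P1 : Set ↥(TT.subgroupOf HT))) :=
    { toFun := fun t => ⟨e t, (hnm t).2 t.2⟩
      invFun := fun s => ⟨e.symm s, (hnm _).1 (by rw [e.apply_symm_apply]; exact s.2)⟩
      left_inv := fun t => Subtype.ext (e.symm_apply_apply _)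
      right_inv := fun s => Subtype.ext (e.apply_symm_apply _)
      map_mul' := fun a b => Subtype.ext (map_mul e _ _) }
  refine H697.ClassCount.card_conjClasses_congr (QuotientGroup.congr _ _ E ?_)
  ext s
  constructor
  · rintro ⟨t, ht, rfl⟩
    exact (hmem _).2 ht
  · intro hs
    refine ⟨E.symm s, ?_, E.apply_symm_apply s⟩
    have h1 : e (e.symm ((s : ↥(normalizer (P1 : Set ↥(TT.subgroupOf HT)))) : ↥(TT.subgroupOf HT))) ∈ P1 := by
      rw [e.apply_symm_apply]
      exact hs
    exact (hmem _).1 h1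

theorem sing_TT : Nat.card (H34.TI.Sing 5 ↥(TT.subgroupOf HT)) = 2 := by
  obtain ⟨Q, x, j, r, L⟩ := loc
  have h1 := card_TT'
  exact card_sing_N L h1

/-- **S4820 for the Tits group**, from the sixteen characters. -/
theorem cnt_one (h16 : ∀ (T : Type u) [Group T] [Finite T], Lie.IsoTits T →
      Nat.card {χ : IrrCharacter T // ¬ 25 ∣ charDegree (χ : T → ℂ)} = 16)
    {H : Type u} [Group H] [Finite H] [Fact (Nat.Prime 5)] (h : Lie.IsoTits H) : H34.TI.Cnt 5 H := by
  intro P hTI
  have hf := fac_tits h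
  have hPc : Nat.card (P : Subgroup H) = 25 := by
    rw [P.card_eq_multiplicity, hf]
    norm_num
  obtain ⟨e⟩ := exists_equiv' h
  rw [H608.TI.locGen 5 H P hTI, kT h hPc, @sing_congr H _ (↥(TT.subgroupOf HT)) (Subgroup.toGroup _) e 5, sing_TT, cnt_aux hf (h16 H h)]

/-- all cases -/
theorem cnt_alm (h16 : ∀ (T : Type u) [Group T] [Finite T], Lie.IsoTits T →
      Nat.card {χ : IrrCharacter T // ¬ 25 ∣ charDegree (χ : T → ℂ)} = 16)
    {H : Type u} [Group H] [Finite H] [Fact (Nat.Prime 5)] {S : Subgroup H} (hA : H681.TI.Alm S) (hS : Lie.IsoTits S)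
    (hi : S.index = 1 ∨ S.index = 2) : H34.TI.Cnt 5 H := by
  rcases hi with hi | hi
  · rw [index_eq_one] at hi
    subst hi
    obtain ⟨e⟩ := hS
    exact cnt_one h16 ⟨topEquiv.symm.trans e⟩
  · exact cnt_two h16 ⟨S, hA.normal, hi, hA.cent, hS⟩

/-- the centralizer of a Sylow 5-subgroup -/
theorem cent_triv {H : Type u} [Group H] [Finite H] [Fact (Nat.Prime 5)] {S : Subgroup H} (hA : H681.TI.Alm S)
    (hS : Lie.IsoTits S) (hi : S.index = 1 ∨ S.index = 2) (R : Sylow 5 H) :
    ∀ x ∈ Subgroup.centralizer ((R : Subgroup H) : Set H), ¬ 5 ∣ orderOf x → x = 1 := by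
  intro g hg h5
  obtain ⟨Q, x, j, r, L⟩ := loc
  have hg' : ∀ p ∈ (R : Subgroup H), g * p * g⁻¹ = p := by
    intro p hp
    rw [← (mem_centralizer_iff.1 hg) p hp, mul_inv_cancel_right]
  have hgR : g ∈ (R : Subgroup H) := by
    rcases hi with hi | hi
    · rw [index_eq_one] at hi
      subst hi
      obtain ⟨e0⟩ := hS
      have hH : Lie.IsoTits H := ⟨topEquiv.symm.trans e0⟩
      have hRc : Nat.card (R : Subgroup H) = 25 := by
        rw [R.card_eq_multiplicity, fac_tits hH]
        norm_num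
      obtain ⟨e⟩ := exists_equiv' hH
      have h1 : e g ∈ (R : Subgroup H).map e.toMonoidHom := by
        refine cent_N L card_TT' ?_ ?_
        · rw [← hRc]
          exact (Nat.card_congr ((R : Subgroup H).equivMapOfInjective _ e.injective).toEquiv).symm
        · rintro _ ⟨p, hp, rfl⟩
          have h2 := congrArg e (hg' p hp)
          rw [map_mul, map_mul, map_inv] at h2
          exact h2
      obtain ⟨s, hs, hs'⟩ := h1
      have h2 : s = g := e.injective hs'
      rw [← h2]
      exact hs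
    · obtain ⟨e, he⟩ := exists_iso hA.normal hi hA.cent hS
      have hSe : (TT.subgroupOf HT).comap e.toMonoidHom = S := by
        rw [← he]
        exact comap_map_eq_self_of_injective e.injective S
      have L' := loc_congr L e
      rw [hSe] at L'
      have hcS : Nat.card S = 17971200 := card_tits hS
      have hRc : Nat.card (R : Subgroup H) = 25 := by
        rw [R.card_eq_multiplicity, fac5 L' hcS]
        norm_num
      exact cent_G L' hcS hRc hg'
  -- `g` is a 5-element
  have h1 : orderOf g ∣ Nat.card (R : Subgroup H) := by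
    have h2 := orderOf_dvd_natCard (⟨g, hgR⟩ : (R : Subgroup H))
    rwa [Subgroup.orderOf_mk] at h2
  rw [R.card_eq_multiplicity] at h1
  obtain ⟨m, -, hm⟩ := (Nat.dvd_prime_pow (by norm_num)).1 h1
  have hm0 : m = 0 := by
    by_contra hm0
    exact h5 (by rw [hm]; exact dvd_pow_self 5 hm0)
  rw [hm0, pow_zero] at hm
  exact orderOf_eq_one_iff.1 hm

/-- **The row of the Tits group.** -/
theorem rowTits_of (h16 : ∀ (T : Type u) [Group T] [Finite T], Lie.IsoTits T →
      Nat.card {χ : IrrCharacter T // ¬ 25 ∣ charDegree (χ : T → ℂ)} = 16) : H723.TI.RowTits.{u} := by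
  have hp : Fact (Nat.Prime 5) := ⟨by norm_num⟩
  have hidx : ∀ (H : Type u) [Group H] [Finite H] (S : Subgroup H), H681.TI.Alm S → Lie.IsoTits S →
      S.index = 1 ∨ S.index = 2 := by
    intro H _ _ S hA hS
    have hfin : Finite S := inferInstance
    have h1 := hA.index_dvd (Y := ↥S) (MulEquiv.refl _)
    have h2 : Nat.card (Out ↥S) ≤ 2 := H867.TitsOut.card_out_le hS
    have h3 : 0 < S.index := Nat.pos_of_ne_zero index_ne_zero_of_finite
    have h4 : Nat.card (Out ↥S) ≠ 0 := by
      have h6 : Finite (Out ↥S) := inferInstance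
      exact Nat.card_pos.ne'
    have h5 := Nat.le_of_dvd (Nat.pos_of_ne_zero h4) h1
    omega
  refine H681.TI.row_of 5 (fun S _ => Lie.IsoTits S) ?_ ?_ ?_ ?_ ?_ ?_
  · intro S S' _ _ e hS
    obtain ⟨e'⟩ := hS
    exact ⟨e.symm.trans e'⟩
  · intro S _ _ hS
    rw [card_tits hS]
    norm_num
  · intro H _ _ S hA hS
    exact (hidx H S hA hS).imp id fun h => by rw [h]; exact Nat.prime_two
  · intro H _ _ S hA hS R _
    exact cent_triv hA hS (hidx H S hA hS) R
  · intro S _ hS
    exact ⟨Lie.TitsGroup, inferInstance, hS, S2115.result⟩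
  · intro H _ _ S hA hS
    exact cnt_alm h16 hA hS (hidx H S hA hS)

end Cfsg.Agent.H345.TiT2
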