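import Cfsg.Agent.H345.TiT2.RowT
import Cfsg.Agent.H757.TI.TitsCount

/-!
# The row of the Tits group in S4819 / S4820 (helper345)
-/

set_option autoImplicit false

namespace Cfsg.Agent.H345.TiT2

open Cfsg

universe u

theorem nondz16 : ∀ (T : Type u) [Group T] [Finite T], Lie.IsoTits T →
    Nat.card {χ : IrrCharacter T // ¬ 25 ∣ charDegree (χ : T → ℂ)} = 16 :=
  fun _ _ _ h => H757.TI.card_nondz h

/-- **The row of the Tits group (S4819).** -/
theorem rowTits : H723.TI.RowTits.{u} := rowTits_of nondz16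

/-- S4820 for the Tits group. -/
theorem cntT {H : Type u} [Group H] [Finite H] [Fact (Nat.Prime 5)] (h : Lie.IsoTits H) : H34.TI.Cnt 5 H :=
  cnt_one nondz16 h

/-- S4820 for `²F₄(2)`. -/
theorem cntT2 {H : Type u} [Group H] [Finite H] [Fact (Nat.Prime 5)]
    (h : H34.TI.AS (fun S _ => Lie.IsoTits S) 2 H) : H34.TI.Cnt 5 H := cnt_two nondz16 h

/-- all cases -/
theorem cntAlm {H : Type u} [Group H] [Finite H] [Fact (Nat.Prime 5)] {S : Subgroup H} (hA : H681.TI.Alm S)
    (hS : Lie.IsoTits S) (hi : S.index = 1 ∨ S.index = 2) : H34.TI.Cnt 5 H := cnt_alm nondz16 hA hS hi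

end Cfsg.Agent.H345.TiT2
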