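import Cfsg.Agent.H34.TI.Defs
import Cfsg.Agent.H438.TI.Loc

/-!
# The classes of elements of order divisible by five of `²F₄(2)` (helper345, for S4819 / S4820)

`card_sing` : from the local data `Loc`, the number of conjugacy classes of elements of order divisible by 5 is 4
(representatives `x * j ^ k`, `k = 0, …, 3`, of orders 5, 20, 10, 20).
-/

set_option autoImplicit false

namespace Cfsg.Agent.H345.TiT2

open Subgroup Cfsg.Agent.H438.TI

universe u

variable {G : Type u} [Group G]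

theorem orderOf_isConj {a b : G} (h : IsConj a b) : orderOf a = orderOf b := by
  obtain ⟨c, hc⟩ := isConj_iff.1 h
  rw [← hc]
  exact (MulEquiv.orderOf_eq (MulAut.conj c) a).symm

/-- the order of the representative -/
theorem orderOf_out (g : G) : orderOf (ConjClasses.mk g).out = orderOf g := by
  apply orderOf_isConj
  rw [← ConjClasses.mk_eq_mk_iff_isConj]
  exact Quotient.out_eq _

variable {N P : Subgroup G} {x j r : G}

theorem orderOf_xj (L : Loc N P x j r) (k : ℕ) : orderOf (x * j ^ k) = 5 * orderOf (j ^ k) := by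
  have h1 : Commute x (j ^ k) := (show Commute x j from L.comm).pow_right k
  rw [h1.orderOf_mul_eq_mul_orderOf_of_coprime, L.ox]
  rw [L.ox]
  have h2 : orderOf (j ^ k) ∣ 4 := by
    rw [← L.oj]
    exact orderOf_pow_dvd k
  exact Nat.Coprime.coprime_dvd_right h2 (by norm_num)

theorem orderOf_jk (L : Loc N P x j r) : orderOf (j ^ 0) = 1 ∧ orderOf (j ^ 1) = 4 ∧ orderOf (j ^ 2) = 2 ∧
    orderOf (j ^ 3) = 4 := by
  refine ⟨by simp, by rw [pow_one, L.oj], ?_, ?_⟩
  · rw [orderOf_pow_of_dvd (by norm_num) (by rw [L.oj]; norm_num), L.oj]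
  · rw [Nat.Coprime.orderOf_pow, L.oj]
    rw [L.oj]
    norm_num

/-- `x j` and `x j³` are not conjugate. -/
theorem not_isConj (L : Loc N P x j r) : ¬ IsConj (x * j ^ 1) (x * j ^ 3) := by
  intro h
  obtain ⟨g, hg⟩ := isConj_iff.1 h
  have hx5 : x ^ 5 = 1 := by rw [← L.ox]; exact pow_orderOf_eq_one x
  have hj4 : j ^ 4 = 1 := by rw [← L.oj]; exact pow_orderOf_eq_one j
  have hc : Commute x j := L.comm
  have e1 : (x * j ^ 1) ^ 16 = x := by
    rw [(hc.pow_right 1).mul_pow, ← pow_mul]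
    have h1 : x ^ 16 = (x ^ 5) ^ 3 * x := by group
    have h2 : j ^ (1 * 16) = (j ^ 4) ^ 4 := by group
    rw [h1, h2, hx5, hj4, one_pow, one_pow, one_mul, mul_one]
  have e2 : (x * j ^ 3) ^ 16 = x := by
    rw [(hc.pow_right 3).mul_pow, ← pow_mul]
    have h1 : x ^ 16 = (x ^ 5) ^ 3 * x := by group
    have h2 : j ^ (3 * 16) = (j ^ 4) ^ 12 := by group
    rw [h1, h2, hx5, hj4, one_pow, one_pow, one_mul, mul_one]
  have e3 : (x * j ^ 1) ^ 5 = j := by
    rw [(hc.pow_right 1).mul_pow, ← pow_mul, hx5, one_mul]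
    have h2 : j ^ (1 * 5) = j ^ 4 * j := by group
    rw [h2, hj4, one_mul]
  have e4 : (x * j ^ 3) ^ 5 = j⁻¹ := by
    rw [(hc.pow_right 3).mul_pow, ← pow_mul, hx5, one_mul]
    have h2 : j ^ (3 * 5) = (j ^ 4) ^ 4 * j⁻¹ := by group
    rw [h2, hj4, one_pow, one_mul]
  have h16 := congrArg (fun t => t ^ 16) hg
  have h5 := congrArg (fun t => t ^ 5) hg
  simp only [conj_pow] at h16 h5
  rw [e1, e2] at h16
  rw [e3, e4] at h5
  have h6 : g * x = x * g := by
    calc g * x = g * x * g⁻¹ * g := by group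
      _ = x * g := by rw [h16]
  have h7 : g * (j * j) * g⁻¹ = j * j := by
    have h8 : g * (j * j) * g⁻¹ = (g * j * g⁻¹) * (g * j * g⁻¹) := by group
    rw [h8, h5]
    have h9 : j⁻¹ * j⁻¹ = j * j * (j ^ 4)⁻¹ := by group
    rw [h9, hj4, inv_one, mul_one]
  have h8 : g * (j * j) = (j * j) * g := by
    calc g * (j * j) = g * (j * j) * g⁻¹ * g := by group
      _ = (j * j) * g := by rw [h7]
  obtain ⟨k, l, rfl⟩ := L.cent g h6 h8
  have h9 : Commute (x ^ k * j ^ l) j := (hc.pow_left k).mul_left ((Commute.refl j).pow_left l)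
  have h10 : (x ^ k * j ^ l) * j * (x ^ k * j ^ l)⁻¹ = j := by
    rw [h9.eq, mul_inv_cancel_right]
  rw [h10] at h5
  have h11 : j ^ 2 = 1 := by
    rw [sq]
    nth_rewrite 1 [h5]
    exact inv_mul_cancel j
  have h12 := orderOf_dvd_of_pow_eq_one h11
  rw [L.oj] at h12
  norm_num at h12

variable [Finite G]

/-- the order of the centralizer of `x` -/
theorem card_cent (L : Loc N P x j r) : Nat.card ↥(centralizer ({x} : Set G)) = 100 := by
  set C := centralizer ({x} : Set G) with hC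
  have hjC : j ∈ C := by
    rw [hC, mem_centralizer_singleton_iff]
    exact L.comm.symm
  have h1 : N.relIndex C = 2 := by
    rw [relIndex_eq_two_iff]
    refine ⟨j, hjC, fun b _ => ?_⟩
    have h2 := L.index
    have h3 := L.jN
    rcases em (b ∈ N) with hb | hb
    · right
      refine ⟨hb, fun h => h3 ((mul_mem_cancel_left hb).1 h)⟩
    · left
      refine ⟨?_, hb⟩
      rw [Subgroup.mul_mem_iff_of_index_two h2]
      exact iff_of_false hb h3
  have h2 := (N.subgroupOf C).card_mul_index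
  have h3 : Nat.card ↥(N.subgroupOf C) = Nat.card ↥(C ⊓ N : Subgroup G) := by
    rw [inf_comm, ← subgroupOf_map_subtype]
    exact (Nat.card_congr (Subgroup.equivMapOfInjective _ _ (subtype_injective C)).toEquiv)
  rw [h3, L.c50] at h2
  have h4 : (N.subgroupOf C).index = 2 := h1
  rw [h4] at h2
  exact h2.symm

/-- an element of 5'-order commuting with `x` is conjugate in the centralizer of `x` to a power of `j` -/
theorem conj_pow_j (L : Loc N P x j r) {b : G} (hb : b * x = x * b) (hc : Nat.Coprime (orderOf b) 5) :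
    ∃ g : G, g * x = x * g ∧ ∃ k < 4, g * b * g⁻¹ = j ^ k := by
  have : Fact (Nat.Prime 2) := ⟨Nat.prime_two⟩
  set C := centralizer ({x} : Set G) with hC
  have hjC : j ∈ C := by
    rw [hC, mem_centralizer_singleton_iff]
    exact L.comm.symm
  have hbC : b ∈ C := by
    rw [hC, mem_centralizer_singleton_iff]
    exact hb
  have hcard : Nat.card C = 100 := card_cent L
  have hf : (Nat.card C).factorization 2 = 2 := by
    rw [hcard, show (100 : ℕ) = 2 ^ 2 * 25 by norm_num, Nat.factorization_mul (by norm_num) (by norm_num),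
      Nat.Prime.factorization_pow Nat.prime_two]
    have h1 : (25 : ℕ).factorization 2 = 0 := Nat.factorization_eq_zero_of_not_dvd (by norm_num)
    simp [h1]
  let J : Subgroup C := zpowers (⟨j, hjC⟩ : C)
  have hJ : Nat.card J = 2 ^ (Nat.card C).factorization 2 := by
    rw [hf, Nat.card_zpowers, Subgroup.orderOf_mk, L.oj]
    norm_num
  let Q : Sylow 2 C := Sylow.ofCard J hJ
  have hb4 : orderOf (⟨b, hbC⟩ : C) ∣ 4 := by
    have h1 : orderOf (⟨b, hbC⟩ : C) ∣ 100 := by rw [← hcard]; exact orderOf_dvd_natCard _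
    rw [Subgroup.orderOf_mk] at h1 ⊢
    have h2 : Nat.Coprime (orderOf b) 25 := by
      rw [show (25 : ℕ) = 5 ^ 2 by norm_num]
      exact Nat.Coprime.pow_right 2 hc
    exact h2.dvd_of_dvd_mul_right (by rw [show 4 * 25 = 100 by norm_num]; exact h1)
  have hpb : IsPGroup 2 (zpowers (⟨b, hbC⟩ : C)) := by
    obtain ⟨m, hm, hm'⟩ := (Nat.dvd_prime_pow Nat.prime_two).1 (show orderOf (⟨b, hbC⟩ : C) ∣ 2 ^ 2 by exact hb4)
    exact IsPGroup.of_card (n := m) (by rw [Nat.card_zpowers, hm'])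
  obtain ⟨R, hR⟩ := hpb.exists_le_sylow
  obtain ⟨g, hg⟩ := MulAction.exists_smul_eq C R Q
  have h1 : (⟨b, hbC⟩ : C) ∈ (R : Subgroup C) := hR (mem_zpowers _)
  have h2 : g * ⟨b, hbC⟩ * g⁻¹ ∈ (Q : Subgroup C) := by
    rw [← hg, Sylow.coe_subgroup_smul]
    exact ⟨_, h1, rfl⟩
  have h3 : g * ⟨b, hbC⟩ * g⁻¹ ∈ J := h2
  obtain ⟨k, hk⟩ := mem_zpowers_iff.1 h3
  refine ⟨g, mem_centralizer_singleton_iff.1 g.2, (k % 4).toNat, ?_, ?_⟩
  · omega
  · have h4 := congrArg Subtype.val hk
    have h5 : j ^ k = (g : G) * b * (g : G)⁻¹ := h4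
    rw [← h5]
    have h6 : j ^ (k % (4 : ℤ)) = j ^ k := by
      have h7 := zpow_mod_orderOf j k
      rw [L.oj] at h7
      exact h7
    rw [← h6, ← zpow_natCast, Int.toNat_of_nonneg (by omega)]

/-- every element of order divisible by 5 is conjugate to `x j ^ k` -/
theorem isConj_xj (L : Loc N P x j r) (hN : Nat.card N = 17971200) {g : G} (hg : 5 ∣ orderOf g) :
    ∃ k < 4, IsConj (x * j ^ k) g := by
  have : Fact (Nat.Prime 5) := ⟨by norm_num⟩
  have hcG : Nat.card G = 35942400 := by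
    rw [← N.card_mul_index, hN, L.index]
  have hfac : (Nat.card G).factorization 5 = 2 := by
    rw [hcG, show (35942400 : ℕ) = 5 ^ 2 * 1437696 by norm_num, Nat.factorization_mul (by norm_num) (by norm_num),
      Nat.Prime.factorization_pow (by norm_num)]
    have h1 : (1437696 : ℕ).factorization 5 = 0 := Nat.factorization_eq_zero_of_not_dvd (by norm_num)
    simp [h1]
  let Q : Sylow 5 G := Sylow.ofCard P (by rw [hfac, L.P_card]; norm_num)
  -- every nontrivial 5-element is conjugate to `x`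
  have key : ∀ a : G, a ≠ 1 → (∃ n, orderOf a = 5 ^ n) → IsConj x a := by
    rintro a ha ⟨n, hn⟩
    have hp : IsPGroup 5 (zpowers a) := IsPGroup.of_card (n := n) (by rw [Nat.card_zpowers, hn])
    obtain ⟨R, hR⟩ := hp.exists_le_sylow
    obtain ⟨c, hc⟩ := MulAction.exists_smul_eq G R Q
    have h2 : c * a * c⁻¹ ∈ (Q : Subgroup G) := by
      rw [← hc, Sylow.coe_subgroup_smul]
      exact ⟨_, hR (mem_zpowers _), rfl⟩
    have h3 : c * a * c⁻¹ ∈ P := h2
    obtain ⟨d, -, hd⟩ := L.P_fus _ h3 (by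
      intro h
      apply ha
      rwa [mul_inv_eq_one, mul_eq_left] at h)
    rw [isConj_iff]
    refine ⟨c⁻¹ * d, ?_⟩
    calc c⁻¹ * d * x * (c⁻¹ * d)⁻¹ = c⁻¹ * (d * x * d⁻¹) * c := by group
      _ = a := by rw [hd]; group
  -- the decomposition
  obtain ⟨e, m, hm, hem⟩ := Nat.exists_eq_pow_mul_and_not_dvd (n := orderOf g) (orderOf_pos g).ne' 5 (by norm_num)
  have he : e ≠ 0 := by
    rintro rfl
    rw [pow_zero, one_mul] at hem
    rw [hem] at hg
    exact hm hg
  have hm0 : m ≠ 0 := by rintro rfl; exact hm (dvd_zero _)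
  have hgm : orderOf (g ^ m) = 5 ^ e := by
    rw [orderOf_pow_of_dvd hm0 (by rw [hem]; exact dvd_mul_left _ _), hem,
      Nat.mul_div_cancel _ (Nat.pos_of_ne_zero hm0)]
  have hgm1 : g ^ m ≠ 1 := by
    intro h
    rw [h, orderOf_one] at hgm
    exact absurd hgm.symm (Nat.one_lt_pow he (by norm_num)).ne'
  have he1 : e = 1 := by
    have h1 := orderOf_isConj (key _ hgm1 ⟨e, hgm⟩)
    rw [L.ox, hgm] at h1
    have h2 : 5 ^ 1 = 5 ^ e := by rw [pow_one]; exact h1
    exact (Nat.pow_right_injective (le_refl 2 |>.trans (by norm_num)) h2).symm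
  subst he1
  rw [pow_one] at hem hgm
  have hcop : Nat.Coprime m 5 := ((Nat.Prime.coprime_iff_not_dvd (by norm_num)).2 hm).symm
  -- u m ≡ 1 mod 5, u m ≡ 0 mod m
  obtain ⟨u, hu1, hu2⟩ := Nat.chineseRemainder hcop 0 1
  have hum : m ∣ u := (Nat.modEq_zero_iff_dvd).1 hu1
  set a := g ^ u with ha
  have hda : orderOf a ∣ 5 := by
    obtain ⟨v, rfl⟩ := hum
    rw [ha, pow_mul]
    exact (orderOf_pow_dvd v).trans (by rw [hgm])
  have ha1 : a ≠ 1 := by
    intro h
    have h1 : orderOf g ∣ u := orderOf_dvd_of_pow_eq_one h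
    rw [hem] at h1
    have h2 : 5 ∣ u := (dvd_mul_right 5 m).trans h1
    have h3 : u ≡ 0 [MOD 5] := (Nat.modEq_zero_iff_dvd).2 h2
    have h4 : (1 : ℕ) ≡ 0 [MOD 5] := hu2.symm.trans h3
    exact absurd h4 (by decide)
  have hoa : orderOf a = 5 := by
    rcases (Nat.dvd_prime (by norm_num)).1 hda with h | h
    · exact absurd (orderOf_eq_one_iff.1 h) ha1
    · exact h
  obtain ⟨c, hc⟩ := isConj_iff.1 (key a ha1 ⟨1, by rw [hoa, pow_one]⟩)
  -- c x c⁻¹ = a ; put b := c⁻¹ (a⁻¹ g) c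
  set b := c⁻¹ * (a⁻¹ * g) * c with hb
  have hxb : x = c⁻¹ * a * c := by rw [← hc]; group
  have hga : Commute g a := by rw [ha]; exact (Commute.refl g).pow_right u
  have hcomm : b * x = x * b := by
    have h1 : (a⁻¹ * g) * a = a * (a⁻¹ * g) := by
      rw [mul_assoc, hga.eq]; group
    rw [hb, hxb]
    calc c⁻¹ * (a⁻¹ * g) * c * (c⁻¹ * a * c) = c⁻¹ * ((a⁻¹ * g) * a) * c := by group
      _ = c⁻¹ * a * c * (c⁻¹ * (a⁻¹ * g) * c) := by rw [h1]; group
  have hbo : Nat.Coprime (orderOf b) 5 := by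
    have h1 : b ^ m = 1 := by
      rw [hb]
      have h2 : (c⁻¹ * (a⁻¹ * g) * c) ^ m = c⁻¹ * (a⁻¹ * g) ^ m * c := by
        have := conj_pow (a := c⁻¹) (b := a⁻¹ * g) (i := m)
        rw [inv_inv] at this
        exact this
      rw [h2]
      have h3 : (a⁻¹ * g) ^ m = 1 := by
        have h4 : Commute a⁻¹ g := hga.symm.inv_left
        rw [h4.mul_pow, ha]
        -- (g^u)^m⁻¹ * g^m = 1 as u m ≡ m mod 5 m
        have h5 : (g ^ u) ^ m = g ^ m := by
          rw [← pow_mul, pow_eq_pow_iff_modEq, hem, mul_comm 5 m, mul_comm u m]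
          have := hu2.mul_left' m
          rwa [mul_one] at this
        rw [inv_pow, h5, inv_mul_cancel]
      rw [h3]
      group
    exact Nat.Coprime.coprime_dvd_left (orderOf_dvd_of_pow_eq_one h1) hcop
  obtain ⟨d, hd, k, hk, hdk⟩ := conj_pow_j L hcomm hbo
  refine ⟨k, hk, isConj_iff.2 ⟨c * d⁻¹, ?_⟩⟩
  have h1 : d⁻¹ * x * d = x := by
    calc d⁻¹ * x * d = d⁻¹ * (x * d) := by group
      _ = x := by rw [← hd]; group
  have h2 : d⁻¹ * j ^ k * d = b := by
    rw [← hdk]; group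
  calc c * d⁻¹ * (x * j ^ k) * (c * d⁻¹)⁻¹ = c * ((d⁻¹ * x * d) * (d⁻¹ * j ^ k * d)) * c⁻¹ := by group
    _ = g := by
      rw [h1, h2, hb, hxb]
      group

/-- **The number of classes of elements of order divisible by five is four.** -/
theorem card_sing (L : Loc N P x j r) (hN : Nat.card N = 17971200) : Nat.card (Cfsg.Agent.H34.TI.Sing 5 G) = 4 := by
  obtain ⟨o0, o1, o2, o3⟩ := orderOf_jk L
  let f : Fin 4 → Cfsg.Agent.H34.TI.Sing 5 G := fun k =>
    ⟨ConjClasses.mk (x * j ^ (k : ℕ)), by rw [orderOf_out, orderOf_xj L]; exact dvd_mul_right _ _⟩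
  have hf : Function.Bijective f := by
    constructor
    · intro k l hkl
      have h1 : ConjClasses.mk (x * j ^ (k : ℕ)) = ConjClasses.mk (x * j ^ (l : ℕ)) := congrArg Subtype.val hkl
      rw [ConjClasses.mk_eq_mk_iff_isConj] at h1
      have h2 := orderOf_isConj h1
      rw [orderOf_xj L, orderOf_xj L] at h2
      have hnc := not_isConj L
      have hnc' : ¬ IsConj (x * j ^ 3) (x * j ^ 1) := fun h => hnc h.symm
      rcases k with ⟨k, hk⟩
      rcases l with ⟨l, hl⟩
      simp only at h1 h2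
      apply Fin.ext
      show k = l
      by_contra hne
      interval_cases k <;> interval_cases l <;>
        first
        | exact hne rfl
        | exact hnc h1
        | exact hnc' h1
        | (simp only [o0, o1, o2, o3] at h2; omega)
    · rintro ⟨c, hc⟩
      obtain ⟨k, hk, hk'⟩ := isConj_xj L hN hc
      refine ⟨⟨k, hk⟩, Subtype.ext ?_⟩
      show ConjClasses.mk (x * j ^ k) = c
      rw [ConjClasses.mk_eq_mk_iff_isConj.2 hk']
      exact Quotient.out_eq c
  rw [← Nat.card_eq_of_bijective f hf, Nat.card_eq_fintype_card, Fintype.card_fin]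

end Cfsg.Agent.H345.TiT2
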